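import Cfsg.Agent.Fus.Mor
import Cfsg.Agent.GlaubermanZJ.Centers

/-!
Abelian subgroups of largest order in a finite subgroup of an arbitrary group, and the subgroup
they generate, under maps of a fusion system.
-/

set_option autoImplicit false

namespace CfsgLib.OddVanish

open Cfsg Cfsg.FusionSystem CfsgLib.Fus

variable {Ω : Type*} [Group Ω]

/-- `A` is an abelian subgroup of `X` of largest order. -/
def TopAb (X A : Subgroup Ω) : Prop :=
  A ≤ X ∧ IsMulCommutative A ∧ ∀ B : Subgroup Ω, B ≤ X → IsMulCommutative B →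
    Nat.card B ≤ Nat.card A

theorem exists_topAb (X : Subgroup Ω) [Finite X] : ∃ A, TopAb X A := by
  have hfin : {A : Subgroup Ω | A ≤ X ∧ IsMulCommutative A}.Finite := by
    refine Set.Finite.subset (Set.finite_range fun B : Subgroup X => B.map X.subtype) ?_
    rintro A ⟨hA, -⟩
    exact ⟨A.subgroupOf X, Subgroup.map_subgroupOf_eq_of_le hA⟩
  obtain ⟨A, hA, hmax⟩ := Set.exists_max_image _ (fun A : Subgroup Ω => Nat.card A) hfin
    ⟨⊥, bot_le, ⟨⟨fun a b => Subsingleton.elim _ _⟩⟩⟩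
  exact ⟨A, hA.1, hA.2, fun B h1 h2 => hmax B ⟨h1, h2⟩⟩

/-- The largest order of an abelian subgroup of `X`. -/
noncomputable def abOrd (X : Subgroup Ω) : ℕ :=
  sSup (Set.range fun A : {A : Subgroup Ω // A ≤ X ∧ IsMulCommutative A} => Nat.card A.1)

theorem TopAb.card_eq {X A : Subgroup Ω} (hA : TopAb X A) : Nat.card A = abOrd X := by
  refine le_antisymm (le_csSup ⟨Nat.card A, ?_⟩ ⟨⟨A, hA.1, hA.2.1⟩, rfl⟩)
    (csSup_le ⟨_, ⟨⟨A, hA.1, hA.2.1⟩, rfl⟩⟩ ?_)
  all_goals
    rintro _ ⟨⟨B, hB1, hB2⟩, rfl⟩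
    exact hA.2.2 B hB1 hB2

theorem card_le_abOrd {X A : Subgroup Ω} [Finite X] (h : A ≤ X) (hc : IsMulCommutative A) :
    Nat.card A ≤ abOrd X := by
  obtain ⟨B, hB⟩ := exists_topAb X
  exact (hB.2.2 A h hc).trans hB.card_eq.le

theorem topAb_of_card {X A : Subgroup Ω} [Finite X] (h : A ≤ X) (hc : IsMulCommutative A)
    (hcard : abOrd X ≤ Nat.card A) : TopAb X A :=
  ⟨h, hc, fun _ hB hBc => (card_le_abOrd hB hBc).trans hcard⟩

theorem abOrd_mono {X Y : Subgroup Ω} [Finite Y] (h : X ≤ Y) : abOrd X ≤ abOrd Y := by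
  have : Finite X := finite_of_le h
  obtain ⟨A, hA⟩ := exists_topAb X
  exact hA.card_eq.ge.trans (card_le_abOrd (hA.1.trans h) hA.2.1)

/-- The subgroup generated by the abelian subgroups of largest order. -/
def abJS (X : Subgroup Ω) : Subgroup Ω := sSup {A | TopAb X A}

theorem TopAb.le_abJS {X A : Subgroup Ω} (hA : TopAb X A) : A ≤ abJS X := le_sSup hA

theorem abJS_le (X : Subgroup Ω) : abJS X ≤ X := sSup_le fun _ hA => hA.1

theorem abJS_mono {X Y : Subgroup Ω} [Finite Y] (h : X ≤ Y) (he : abOrd X = abOrd Y) :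
    abJS X ≤ abJS Y :=
  sSup_le fun _ hA => (topAb_of_card (hA.1.trans h) hA.2.1 (he ▸ hA.card_eq.ge)).le_abJS

theorem abOrd_abJS (X : Subgroup Ω) [Finite X] : abOrd (abJS X) = abOrd X := by
  have : Finite (abJS X) := finite_of_le (abJS_le X)
  obtain ⟨A, hA⟩ := exists_topAb X
  exact le_antisymm (abOrd_mono (abJS_le X))
    (hA.card_eq.ge.trans (card_le_abOrd hA.le_abJS hA.2.1))

theorem abJS_abJS (X : Subgroup Ω) [Finite X] : abJS (abJS X) = abJS X := by
  have : Finite (abJS X) := finite_of_le (abJS_le X)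
  refine le_antisymm (abJS_le _) (sSup_le fun A hA => ?_)
  exact (topAb_of_card hA.le_abJS hA.2.1 ((abOrd_abJS X).le.trans hA.card_eq.ge)).le_abJS

/-- An element of `X` centralizing an abelian subgroup of largest order lies in it. -/
theorem TopAb.mem_of_commute {X A : Subgroup Ω} [Finite X] (hA : TopAb X A) {x : Ω} (hx : x ∈ X)
    (hc : ∀ a ∈ A, a * x = x * a) : x ∈ A := by
  have hcomm : IsMulCommutative (Subgroup.closure ((A : Set Ω) ∪ {x})) := by
    refine Subgroup.isMulCommutative_closure ?_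
    rintro u (hu | rfl) v (hv | rfl)
    · exact CfsgLib.GlaubermanZJ.isMulCommutative_apply hA.2.1 hu hv
    · exact hc u hu
    · exact (hc v hv).symm
    · rfl
  have hle : Subgroup.closure ((A : Set Ω) ∪ {x}) ≤ X := by
    rw [Subgroup.closure_le]
    exact Set.union_subset hA.1 (Set.singleton_subset_iff.2 hx)
  have : Finite (Subgroup.closure ((A : Set Ω) ∪ {x})) := finite_of_le hle
  have hA' : A ≤ Subgroup.closure ((A : Set Ω) ∪ {x}) :=
    fun y hy => Subgroup.subset_closure (Or.inl hy)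
  rw [Subgroup.eq_of_le_of_card_ge hA' (hA.2.2 _ hle hcomm)]
  exact Subgroup.subset_closure (Or.inr rfl)

theorem mem_abJS_of_commute {X : Subgroup Ω} [Finite X] {x : Ω} (hx : x ∈ X)
    (hc : ∀ a ∈ abJS X, a * x = x * a) : x ∈ abJS X := by
  obtain ⟨A, hA⟩ := exists_topAb X
  exact hA.le_abJS (hA.mem_of_commute hx fun a ha => hc a (hA.le_abJS ha))

/-- The quantity used to compare subgroups of `S`: largest abelian order first, then `|J|`. -/
noncomputable def jRank (S X : Subgroup Ω) : ℕ :=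
  abOrd X * (Nat.card S + 1) + Nat.card (abJS X)

theorem jRank_mono {S X Y : Subgroup Ω} [Finite S] (h : X ≤ Y) (hY : Y ≤ S) :
    jRank S X ≤ jRank S Y := by
  have : Finite Y := finite_of_le hY
  have : Finite (abJS Y) := finite_of_le (abJS_le Y)
  rcases eq_or_lt_of_le (abOrd_mono h) with he | hlt
  · rw [jRank, jRank, he]
    exact Nat.add_le_add_left (Subgroup.card_le_of_le (abJS_mono h he)) _
  · have h1 : (abOrd X + 1) * (Nat.card S + 1) ≤ abOrd Y * (Nat.card S + 1) :=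
      Nat.mul_le_mul hlt le_rfl
    have h2 := Subgroup.card_le_of_le (((abJS_le X).trans h).trans hY)
    rw [add_mul, one_mul] at h1
    rw [jRank, jRank]
    omega

theorem jRank_lt {S X Y : Subgroup Ω} [Finite S] (h : X ≤ Y) (hY : Y ≤ S)
    (hne : abJS X ≠ abJS Y) : jRank S X < jRank S Y := by
  have : Finite Y := finite_of_le hY
  have : Finite (abJS Y) := finite_of_le (abJS_le Y)
  rcases eq_or_lt_of_le (abOrd_mono h) with he | hlt
  · rw [jRank, jRank, he]
    refine Nat.add_lt_add_left (lt_of_le_of_ne (Subgroup.card_le_of_le (abJS_mono h he)) ?_) _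
    exact fun hc => hne (Subgroup.eq_of_le_of_card_ge (abJS_mono h he) hc.ge)
  · have h1 : (abOrd X + 1) * (Nat.card S + 1) ≤ abOrd Y * (Nat.card S + 1) :=
      Nat.mul_le_mul hlt le_rfl
    have h2 := Subgroup.card_le_of_le (((abJS_le X).trans h).trans hY)
    rw [add_mul, one_mul] at h1
    rw [jRank, jRank]
    omega

theorem jRank_abJS {S X : Subgroup Ω} [Finite X] : jRank S (abJS X) = jRank S X := by
  rw [jRank, jRank, abOrd_abJS, abJS_abJS]

theorem card_abJS_le_jRank {S X : Subgroup Ω} : Nat.card (abJS X) ≤ jRank S X :=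
  Nat.le_add_left _ _

variable {S : Subgroup Ω} {F : Cfsg.FusionSystem S} {N X Y : Subgroup Ω} {f : Ω → Ω}

/-- Images of abelian subgroups under a map of the system. -/
theorem exists_img_ab (hf : Mor F N f) {A : Subgroup Ω} (hAX : A ≤ X) (hXN : X ≤ N)
    (hY : f '' (X : Set Ω) = Y) (hA : IsMulCommutative A) :
    ∃ B : Subgroup Ω, f '' (A : Set Ω) = B ∧ B ≤ Y ∧ IsMulCommutative B ∧
      Nat.card B = Nat.card A := by
  obtain ⟨B, hB, -⟩ := hf.exists_img (hAX.trans hXN)
  refine ⟨B, hB, ?_, ⟨⟨fun a b => Subtype.ext ?_⟩⟩, hf.card_img (hAX.trans hXN) hB⟩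
  · intro y hy
    show y ∈ (Y : Set Ω)
    rw [← hY]
    exact Set.image_mono hAX ((Set.ext_iff.1 hB y).2 hy)
  · obtain ⟨u, hu, hue⟩ := (Set.ext_iff.1 hB (a : Ω)).2 a.2
    obtain ⟨v, hv, hve⟩ := (Set.ext_iff.1 hB (b : Ω)).2 b.2
    show (a : Ω) * b = b * a
    rw [← hue, ← hve, ← hf.map_mul (hXN (hAX hu)) (hXN (hAX hv)),
      ← hf.map_mul (hXN (hAX hv)) (hXN (hAX hu)),
      CfsgLib.GlaubermanZJ.isMulCommutative_apply hA hu hv]

theorem abOrd_image [Finite S] (hf : Mor F N f) (hXN : X ≤ N) (hY : f '' (X : Set Ω) = Y) :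
    abOrd Y = abOrd X := by
  have key : ∀ {N X Y : Subgroup Ω} {f : Ω → Ω}, Mor F N f → X ≤ N → f '' (X : Set Ω) = Y →
      abOrd X ≤ abOrd Y := by
    intro N X Y f hf hXN hY
    have : Finite X := finite_of_le (hXN.trans hf.le)
    have : Finite Y := by
      obtain ⟨R, hR, hRS⟩ := hf.exists_img hXN
      rw [show Y = R from SetLike.coe_injective (hY.symm.trans hR)]
      exact finite_of_le hRS
    obtain ⟨A, hA⟩ := exists_topAb X
    obtain ⟨B, -, hBY, hBc, hcard⟩ := exists_img_ab hf hA.1 hXN hY hA.2.1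
    exact (hA.card_eq.symm.trans hcard.symm).le.trans (card_le_abOrd hBY hBc)
  obtain ⟨g, hg, -, -, hgX⟩ := (hf.restrict hXN).exists_inv hY
  exact le_antisymm (key hg le_rfl hgX) (key hf hXN hY)

theorem abJS_image [Finite S] (hf : Mor F N f) (hXN : X ≤ N) (hY : f '' (X : Set Ω) = Y) :
    f '' (abJS X : Set Ω) = abJS Y := by
  have key : ∀ {N X Y : Subgroup Ω} {f : Ω → Ω}, Mor F N f → X ≤ N → f '' (X : Set Ω) = Y →
      ∀ x ∈ abJS X, f x ∈ abJS Y := by
    intro N X Y f hf hXN hY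
    have : Finite Y := by
      obtain ⟨R, hR, hRS⟩ := hf.exists_img hXN
      rw [show Y = R from SetLike.coe_injective (hY.symm.trans hR)]
      exact finite_of_le hRS
    let K : Subgroup Ω :=
      { carrier := {y | y ∈ N ∧ f y ∈ abJS Y}
        one_mem' := ⟨N.one_mem, by
          have h1 := hf.map_mul N.one_mem N.one_mem
          rw [mul_one, left_eq_mul] at h1
          rw [h1]
          exact Subgroup.one_mem _⟩
        mul_mem' := fun {a b} ha hb =>
          ⟨N.mul_mem ha.1 hb.1, (hf.map_mul ha.1 hb.1).symm ▸ Subgroup.mul_mem _ ha.2 hb.2⟩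
        inv_mem' := fun {a} ha =>
          ⟨N.inv_mem ha.1, (hf.map_inv ha.1).symm ▸ Subgroup.inv_mem _ ha.2⟩ }
    suffices abJS X ≤ K from fun x hx => (this hx).2
    refine sSup_le fun A hA a ha => ⟨hXN (hA.1 ha), ?_⟩
    obtain ⟨B, hB, hBY, hBc, hcard⟩ := exists_img_ab hf hA.1 hXN hY hA.2.1
    exact (topAb_of_card hBY hBc ((abOrd_image hf hXN hY).le.trans
      (hA.card_eq.ge.trans hcard.ge))).le_abJS ((Set.ext_iff.1 hB _).1 ⟨a, ha, rfl⟩)
  obtain ⟨g, hg, hgf, hfg, hgX⟩ := (hf.restrict hXN).exists_inv hY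
  refine Set.Subset.antisymm (Set.image_subset_iff.2 (key hf hXN hY)) fun y hy => ?_
  exact ⟨g y, key hg le_rfl hgX y hy, hfg y (abJS_le Y hy)⟩

theorem jRank_image [Finite S] (hf : Mor F N f) (hXN : X ≤ N) (hY : f '' (X : Set Ω) = Y) :
    jRank S Y = jRank S X := by
  rw [jRank, jRank, abOrd_image hf hXN hY,
    hf.card_img ((abJS_le X).trans hXN) (abJS_image hf hXN hY)]

theorem normalizerIn_le_normalizer_abJS [Finite S] (F : Cfsg.FusionSystem S) {X : Subgroup Ω}
    (hX : X ≤ S) : normalizerIn S X ≤ normalizerIn S (abJS X) := by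
  have : Finite X := finite_of_le hX
  have : Finite (abJS X) := finite_of_le (abJS_le X)
  intro s hs
  have hm := mor_conj hX hs.1 (F := F)
  have hXX : (fun x => s * x * s⁻¹) '' (X : Set Ω) = X := by
    refine Set.eq_of_subset_of_ncard_le ?_ ?_ (Set.toFinite _)
    · rintro _ ⟨x, hx, rfl⟩
      exact conj_mem_of_normalizer hs.2 hx
    · rw [Set.InjOn.ncard_image hm.injOn]
  have h1 := abJS_image hm le_rfl hXX
  refine ⟨hs.1, Subgroup.mem_normalizer_iff.2 fun y => ⟨fun hy => ?_, fun hy => ?_⟩⟩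
  · exact (Set.ext_iff.1 h1 _).1 ⟨y, hy, rfl⟩
  · obtain ⟨z, hz, hze⟩ := (Set.ext_iff.1 h1 _).2 hy
    have : z = y := mul_left_cancel (mul_right_cancel hze)
    rwa [← this]

end CfsgLib.OddVanish
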