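import Cfsg.Agent.Fus.NormalCentralizer.Fix
import Cfsg.Agent.Fus.OddVanish.AbJ

/-!
Points fixed by the canonical automorphisms at a subgroup: transport along maps of the system,
restriction of automorphisms to `J`, and the action on the centre.
-/

set_option autoImplicit false

namespace CfsgLib.OddVanish

open Cfsg Cfsg.FusionSystem CfsgLib.Fus CfsgLib.NormalCent

variable {Ω : Type*} [Group Ω] {S T : Subgroup Ω} {F : Cfsg.FusionSystem S}
  {E : Cfsg.FusionSystem T} {p : ℕ}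

/-- `x` is fixed by all canonical automorphisms at `Q`. -/
def FixAt (F : Cfsg.FusionSystem S) (E : Cfsg.FusionSystem T) (p : ℕ) (x : Ω)
    (Q : Subgroup Ω) : Prop :=
  ∀ β, Canon F E p Q β → β x = x

/-- The points of `Q C_S(Q)` fixed by all canonical automorphisms at `Q`. -/
def fixSub (F : Cfsg.FusionSystem S) (E : Cfsg.FusionSystem T) (p : ℕ) (Q : Subgroup Ω) :
    Subgroup Ω where
  carrier := {x | x ∈ Q ⊔ centralizerIn S Q ∧ FixAt F E p x Q}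
  one_mem' := ⟨Subgroup.one_mem _, fun _ h => map_one_of_mor h.mor⟩
  mul_mem' := fun {a b} ha hb => ⟨Subgroup.mul_mem _ ha.1 hb.1, fun β h => by
    rw [h.mor.map_mul ha.1 hb.1, ha.2 β h, hb.2 β h]⟩
  inv_mem' := fun {a} ha => ⟨Subgroup.inv_mem _ ha.1, fun β h => by
    rw [h.mor.map_inv ha.1, ha.2 β h]⟩

/-- Maps of the system transport the property of being fixed. -/
theorem fixAt_image [Finite S] [Fact p.Prime] (hS : IsPGroup p S) (hE : E.IsNormalIn F p)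
    {N Q Q' : Subgroup Ω} {f : Ω → Ω} {x : Ω} (hf : Mor F N f)
    (hN : Q ⊔ Subgroup.zpowers x ≤ N) (hx : x ∈ centralizerIn S Q)
    (hQ' : f '' (Q : Set Ω) = Q') (hfix : FixAt F E p x Q) : FixAt F E p (f x) Q' := by
  intro β' hβ'
  set N₁ := Q ⊔ Subgroup.zpowers x
  obtain ⟨M₁, hM, -⟩ := hf.exists_img hN
  obtain ⟨g, hg, hgf, hfg, hgM⟩ := (hf.restrict hN).exists_inv hM
  have hfM : ∀ y ∈ N₁, f y ∈ M₁ := fun y hy => (Set.ext_iff.1 hM _).1 ⟨y, hy, rfl⟩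
  have hQsurj : ∀ y ∈ Q', ∃ q ∈ Q, f q = y := fun y hy => (Set.ext_iff.1 hQ' y).2 hy
  have hQ'M : Q' ≤ M₁ := fun y hy => by
    obtain ⟨q, hq, rfl⟩ := hQsurj y hy
    exact hfM q (Subgroup.mem_sup_left hq)
  have hgQ : g '' (Q' : Set Ω) = Q := by
    ext y
    constructor
    · rintro ⟨_, hu, rfl⟩
      obtain ⟨q, hq, rfl⟩ := hQsurj _ hu
      rw [hgf q (Subgroup.mem_sup_left hq)]
      exact hq
    · intro hy
      exact ⟨f y, (Set.ext_iff.1 hQ' _).1 ⟨y, hy, rfl⟩, hgf y (Subgroup.mem_sup_left hy)⟩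
  have hgQm : ∀ y ∈ Q', g y ∈ Q := fun y hy => (Set.ext_iff.1 hgQ _).1 ⟨y, hy, rfl⟩
  have hxN₁ : x ∈ N₁ := Subgroup.mem_sup_right (Subgroup.mem_zpowers x)
  obtain ⟨a', ha', ha'e⟩ := hβ'.adm
  obtain ⟨a, ha, hae⟩ := exists_transport hE hg hQ'M hβ'.tc.1 hgQ ha'
  obtain ⟨β, hβ, hβe, -⟩ := exists_canon_strong hS hE
    (tcentric_image hE hβ'.tc (hg.restrict hQ'M) hgQ) ha
  have hβx : β x = x := hfix β hβ
  have hN₁le : N₁ ≤ Q ⊔ centralizerIn S Q :=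
    sup_le le_sup_left ((Subgroup.zpowers_le.2 hx).trans le_sup_right)
  have hβN : ∀ y ∈ N₁, β y ∈ N₁ := fun y hy =>
    mem_of_sup hβ.mor hN₁le (fun q hq => Subgroup.mem_sup_left (hβ.map_self hq))
      (fun v hv => zpowers_image hβ.mor (hN₁le hxN₁) (hβx.symm ▸ hxN₁) hv) hy
  have hgN : ∀ y ∈ M₁, g y ∈ N₁ := fun y hy => (Set.ext_iff.1 hgM _).1 ⟨y, hy, rfl⟩
  let m : Ω → Ω := f ∘ (β ∘ g)
  have hm : Mor F M₁ m :=
    ((hg.comp (hβ.mor.restrict hN₁le) hgN)).comp (hf.restrict hN) fun y hy => hβN _ (hgN y hy)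
  have heq : ∀ q ∈ Q', m q = β' q := fun q hq => by
    show f (β (g q)) = β' q
    rw [hβe ⟨g q, hgQm q hq⟩, hae ⟨q, hq⟩ (hgQm q hq), hfg _ (hQ'M (a' ⟨q, hq⟩).2),
      ha'e ⟨q, hq⟩]
  have hmx : m (f x) = f x := by
    show f (β (g (f x))) = f x
    rw [hgf x hxN₁, hβx]
  exact (hβ'.fix_iff hS hE hm hQ'M heq (hfM x hxN₁)
    (map_centralizerIn hf (le_sup_left.trans hN) hQ' (hN hxN₁) hx)
    (by rw [hmx, inv_mul_cancel]; exact Q'.one_mem) ⟨1, Nat.coprime_one_left p, hmx⟩).2 hmx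
where
  /-- The image of a power. -/
  zpowers_image {F : Cfsg.FusionSystem S} {N M : Subgroup Ω} {f : Ω → Ω} (h : Mor F N f) {x : Ω}
      (hx : x ∈ N) (hfx : f x ∈ M) {v : Ω} (hv : v ∈ Subgroup.zpowers x) : f v ∈ M := by
    obtain ⟨i, rfl⟩ := hv
    obtain ⟨φ, -, e⟩ := h
    rw [← e ⟨x ^ i, N.zpow_mem hx i⟩,
      show (⟨x ^ i, N.zpow_mem hx i⟩ : N) = ⟨x, hx⟩ ^ i from rfl, map_zpow, e]
    exact M.zpow_mem hfx i

/-- The automorphism `a` of `R` restricts to `b` on `J`. -/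
def RestrictsTo {R J : Subgroup Ω} (a : MulAut R) (b : MulAut J) : Prop :=
  ∀ (y : J) (h : (y : Ω) ∈ R), ((b y : J) : Ω) = a ⟨y, h⟩

theorem restrictsTo_one {R J : Subgroup Ω} : RestrictsTo (1 : MulAut R) (1 : MulAut J) :=
  fun _ _ => rfl

theorem RestrictsTo.mul {R J : Subgroup Ω} (hJR : J ≤ R) {a a' : MulAut R} {b b' : MulAut J}
    (h : RestrictsTo a b) (h' : RestrictsTo a' b') : RestrictsTo (a * a') (b * b') := fun y hy => by
  show ((b (b' y) : J) : Ω) = a (a' ⟨y, hy⟩)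
  rw [h (b' y) (hJR (b' y).2)]
  congr 2
  exact Subtype.ext (h' y hy)

theorem RestrictsTo.inv {R J : Subgroup Ω} (hJR : J ≤ R) {a : MulAut R} {b : MulAut J}
    (h : RestrictsTo a b) : RestrictsTo a⁻¹ b⁻¹ := fun y hy => by
  have h1 := h (b⁻¹ y) (hJR (b⁻¹ y).2)
  rw [MulAut.apply_inv_self] at h1
  have h2 : (⟨y, hy⟩ : R) = a ⟨((b⁻¹ y : J) : Ω), hJR (b⁻¹ y).2⟩ := Subtype.ext h1
  rw [h2, MulAut.inv_apply_self]

theorem RestrictsTo.pow {R J : Subgroup Ω} (hJR : J ≤ R) {a : MulAut R} {b : MulAut J}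
    (h : RestrictsTo a b) : ∀ n : ℕ, RestrictsTo (a ^ n) (b ^ n)
  | 0 => by simpa using restrictsTo_one
  | n + 1 => by rw [pow_succ, pow_succ]; exact (h.pow hJR n).mul hJR h

theorem RestrictsTo.eq_one {R J : Subgroup Ω} (hJR : J ≤ R) {b : MulAut J}
    (h : RestrictsTo (1 : MulAut R) b) : b = 1 :=
  MulEquiv.ext fun y => Subtype.ext (h y (hJR y.2))

/-- Automorphisms generated by `p`-elements restrict to such automorphisms of `J`. -/
theorem exists_restrict_abJS [Finite T] {R : Subgroup Ω} (hRT : R ≤ T) {a : MulAut R}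
    (ha : a ∈ pGen E p R) : ∃ b ∈ pGen E p (abJS R), RestrictsTo a b := by
  have hJR := abJS_le R
  let K : Subgroup (MulAut R) :=
    { carrier := {c | ∃ b ∈ pGen E p (abJS R), RestrictsTo c b}
      one_mem' := ⟨1, Subgroup.one_mem _, restrictsTo_one⟩
      mul_mem' := by
        rintro c d ⟨b, hb, hcb⟩ ⟨b', hb', hdb⟩
        exact ⟨b * b', Subgroup.mul_mem _ hb hb', hcb.mul hJR hdb⟩
      inv_mem' := by
        rintro c ⟨b, hb, hcb⟩
        exact ⟨b⁻¹, Subgroup.inv_mem _ hb, hcb.inv hJR⟩ }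
  suffices pGen E p R ≤ K from this ha
  refine (Subgroup.closure_le _).2 fun c hc => ?_
  obtain ⟨hcE, k, hk⟩ := hc
  obtain ⟨f, hf, hfe, hfR⟩ := exists_mor_of_aut hRT ⟨c, hcE⟩
  obtain ⟨⟨b, hbE⟩, hb⟩ := exists_aut_of_mor (hf.restrict hJR) (abJS_image hf le_rfl hfR)
  have hcb : RestrictsTo c b := fun y hy => (hb y).trans (hfe ⟨y, hy⟩)
  refine ⟨b, Subgroup.subset_closure ⟨hbE, k, ?_⟩, hcb⟩
  have h1 := hcb.pow hJR (p ^ k)
  rw [hk] at h1
  exact h1.eq_one hJR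

/-- The centre `Q ∩ C_S(Q)`. -/
abbrev zSub (S Q : Subgroup Ω) : Subgroup Ω := Q ⊓ centralizerIn S Q

theorem aut_mem_zSub {Q : Subgroup Ω} (hQ : Q ≤ S) (a : MulAut Q) {z : Ω} (hz : z ∈ zSub S Q) :
    ((a ⟨z, hz.1⟩ : Q) : Ω) ∈ zSub S Q := by
  refine ⟨SetLike.coe_mem _, hQ (SetLike.coe_mem _), fun q hq => ?_⟩
  obtain ⟨q', hq'⟩ := a.surjective ⟨q, hq⟩
  have h1 : (q' : Q) * ⟨z, hz.1⟩ = ⟨z, hz.1⟩ * q' := Subtype.ext (hz.2.2 q' q'.2)
  have h2 := congrArg (fun t : Q => ((a t : Q) : Ω)) h1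
  simp only [map_mul, Subgroup.coe_mul, hq'] at h2
  exact h2

/-- The action of automorphisms of `Q` on its centre. -/
def zAct {Q : Subgroup Ω} (hQ : Q ≤ S) : MulAut Q →* MulAut (zSub S Q) where
  toFun a :=
    { toFun := fun z => ⟨_, aut_mem_zSub hQ a z.2⟩
      invFun := fun z => ⟨_, aut_mem_zSub hQ a⁻¹ z.2⟩
      left_inv := fun z => Subtype.ext (congrArg (Subtype.val : Q → Ω)
        (MulAut.inv_apply_self _ a ⟨z, z.2.1⟩))
      right_inv := fun z => Subtype.ext (congrArg (Subtype.val : Q → Ω)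
        (MulAut.apply_inv_self _ a ⟨z, z.2.1⟩))
      map_mul' := fun u v => Subtype.ext (congrArg (Subtype.val : Q → Ω)
        (map_mul a ⟨(u : Ω), u.2.1⟩ ⟨(v : Ω), v.2.1⟩)) }
  map_one' := rfl
  map_mul' _ _ := rfl

theorem coe_zAct {Q : Subgroup Ω} (hQ : Q ≤ S) (a : MulAut Q) (z : zSub S Q) :
    (zAct hQ a z : Ω) = a ⟨(z : Ω), z.2.1⟩ := rfl

end CfsgLib.OddVanish
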