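import Cfsg.Agent.Fus.NormalCentralizer.Closed
import Cfsg.Agent.Fus.OddVanish.Transport

/-!
For a centric radical subgroup `R` of a saturated system the subgroup `J(R)` is centric.
-/

set_option autoImplicit false

namespace CfsgLib.OddVanish

open Cfsg Cfsg.FusionSystem CfsgLib.Fus CfsgLib.NormalCent

variable {Ω : Type*} [Group Ω] {T : Subgroup Ω} {E : Cfsg.FusionSystem T} {p : ℕ}
  [Finite T] [Fact p.Prime]

theorem centralizer_abJS_le (hT : IsPGroup p T) {R : Subgroup Ω} (hc : E.IsCentric R)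
    (hr : E.IsRadical p R) : centralizerIn T (abJS R) ≤ abJS R := by
  classical
  have hRT : R ≤ T := hc.1
  have : Finite R := finite_of_le hRT
  have := finite_mulAut R
  have hJR := abJS_le R
  suffices h : centralizerIn T (abJS R) ≤ R from
    fun c hcc => mem_abJS_of_commute (h hcc) fun a ha => hcc.2 a ha
  by_contra hne
  have hRN : R ≤ normalizerIn T (abJS R) :=
    (le_normalizerIn hRT).trans (normalizerIn_le_normalizer_abJS E hRT)
  obtain ⟨c, hcC, hcN, hcR⟩ := exists_normalizing_in hT hRT (centralizerIn_le (abJS R))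
    (fun x hx c hc => le_normalizer_centralizerIn (hRN hx) hc) hne
  let K : Subgroup (E.autGroup R) :=
    { carrier := {a | ∀ (j : R), (j : Ω) ∈ abJS R → (a : MulAut R) j = j}
      one_mem' := fun j _ => rfl
      mul_mem' := fun {a b} ha hb j hj => by
        rw [Subgroup.coe_mul, MulAut.mul_apply, hb j hj, ha j hj]
      inv_mem' := fun {a} ha j hj => by
        conv_lhs => rw [← ha j hj]
        rw [InvMemClass.coe_inv, MulAut.inv_apply_self] }
  have hstab : ∀ (a : E.autGroup R) (j : R), (j : Ω) ∈ abJS R →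
      (((a : MulAut R) j : R) : Ω) ∈ abJS R := by
    intro a j hj
    obtain ⟨f, hf, hfe, hfR⟩ := exists_mor_of_aut hRT a
    rw [← hfe j]
    exact (Set.ext_iff.1 (abJS_image hf le_rfl hfR) _).1 ⟨j, hj, rfl⟩
  have hKn : K.Normal := by
    refine ⟨fun a ha g j hj => ?_⟩
    rw [Subgroup.coe_mul, Subgroup.coe_mul, MulAut.mul_apply, MulAut.mul_apply,
      ha _ (hstab g⁻¹ j hj), InvMemClass.coe_inv, MulAut.apply_inv_self]
  have hKp : IsPGroup p K := by
    rintro ⟨a, ha⟩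
    obtain ⟨k, m, hm, hab⟩ :=
      Nat.exists_eq_pow_mul_and_not_dvd (orderOf_pos a).ne' p (Fact.out : p.Prime).ne_one
    refine ⟨k, Subtype.ext ?_⟩
    set b := a ^ p ^ k with hb
    have hbK : b ∈ K := K.pow_mem ha _
    have hbm : b ^ m = 1 := by rw [hb, ← pow_mul, ← hab, pow_orderOf_eq_one]
    have hm' : m.Coprime p := Nat.Coprime.symm ((Fact.out : p.Prime).coprime_iff_not_dvd.2 hm)
    show b = 1
    refine Subtype.ext (MulEquiv.ext fun r => ?_)
    set u := r⁻¹ * (b : MulAut R) r with hu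
    have huJ : (u : Ω) ∈ abJS R := by
      refine mem_abJS_of_commute u.2 fun j hj => ?_
      have h1 : r * ⟨j, hJR hj⟩ * r⁻¹ = (b : MulAut R) (r * ⟨j, hJR hj⟩ * r⁻¹) :=
        (hbK _ (conj_mem_of_normalizer (hRN r.2).2 hj)).symm
      rw [map_mul, map_mul, map_inv, hbK ⟨j, hJR hj⟩ hj] at h1
      have h2 := congrArg (Subtype.val : R → Ω) h1
      simp only [Subgroup.coe_mul, InvMemClass.coe_inv] at h2
      rw [hu]
      simp only [Subgroup.coe_mul, InvMemClass.coe_inv]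
      calc j * ((r : Ω)⁻¹ * ((b : MulAut R) r : R))
          = (r : Ω)⁻¹ * ((r : Ω) * j * (r : Ω)⁻¹) * ((b : MulAut R) r : R) := by group
        _ = _ := by rw [h2]; group
    have hbu : (b : MulAut R) u = u := hbK u huJ
    have hbr : (b : MulAut R) r = r * u := (mul_inv_cancel_left r _).symm
    have hit : ∀ i : ℕ, ((b ^ i : E.autGroup R) : MulAut R) r = r * u ^ i := by
      intro i
      induction i with
      | zero => simp
      | succ i ih =>
        rw [pow_succ', Subgroup.coe_mul, MulAut.mul_apply, ih, map_mul, map_pow, hbu, hbr,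
          mul_assoc, ← pow_succ']
    have h3 := hit m
    rw [hbm] at h3
    have h4 : (u : Ω) ^ m = 1 := by
      have h5 : u ^ m = 1 := by simpa using h3.symm
      exact congrArg Subtype.val h5
    have h6 := eq_one_of_coprime_pow hT (hRT u.2) hm' h4
    rw [hbr, show u = 1 from Subtype.ext h6, mul_one]
    rfl
  have hcE : conjAut hcN ∈ E.autGroup R :=
    autInducedBy_le_autGroup E hRT (conjAut_mem_autInducedBy hcN hcC.1)
  have hcK : (⟨conjAut hcN, hcE⟩ : E.autGroup R) ∈ K := fun j hj => Subtype.ext <| by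
    show c * (j : Ω) * c⁻¹ = j
    rw [← hcC.2 j hj, mul_inv_cancel_right]
  have h1 : conjAut hcN ∈ Cfsg.Inn R := by
    rw [← hr.2]
    exact ⟨_, CharP.le_pCore hKn hKp hcK, rfl⟩
  obtain ⟨r, hr'⟩ := h1
  have h2 : (r : Ω)⁻¹ * c ∈ R := by
    refine hc.2 R (isConj_refl E hRT) ⟨T.mul_mem (T.inv_mem (hRT r.2)) hcC.1, fun y hy => ?_⟩
    have h3 : (r : Ω) * y * (r : Ω)⁻¹ = c * y * c⁻¹ :=
      congrArg (fun a : MulAut R => ((a ⟨y, hy⟩ : R) : Ω)) hr'
    calc y * ((r : Ω)⁻¹ * c) = (r : Ω)⁻¹ * ((r : Ω) * y * (r : Ω)⁻¹) * c := by group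
      _ = (r : Ω)⁻¹ * (c * y * c⁻¹) * c := by rw [h3]
      _ = (r : Ω)⁻¹ * c * y := by group
  have h4 := R.mul_mem r.2 h2
  rw [mul_inv_cancel_left] at h4
  exact hcR h4

theorem isCentric_abJS (hT : IsPGroup p T) (hE : E.IsSaturated p) {R : Subgroup Ω}
    (hc : E.IsCentric R) (hr : E.IsRadical p R) : E.IsCentric (abJS R) := by
  have hRT : R ≤ T := hc.1
  have hJT : abJS R ≤ T := (abJS_le R).trans hRT
  obtain ⟨J₁, hJJ₁, hfn⟩ := exists_fullyNormalized E hJT
  obtain ⟨φ, hφ, hφr, θ, hθ, hθe⟩ := exists_normalizer_map_fn hT hE hfn hJJ₁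
  obtain ⟨f, hf, hfe⟩ := exists_mor hθ
  have hRN : R ≤ normalizerIn T (abJS R) :=
    (le_normalizerIn hRT).trans (normalizerIn_le_normalizer_abJS E hRT)
  have hfJ : f '' (abJS R : Set Ω) = J₁ := by
    rw [← hφr]
    ext y
    have hJN := (abJS_le R).trans hRN
    constructor
    · rintro ⟨x, hx, rfl⟩
      exact ⟨⟨x, hx⟩, ((hfe ⟨x, hJN hx⟩).trans (hθe ⟨x, hx⟩ (hJN hx))).symm⟩
    · rintro ⟨x, rfl⟩
      exact ⟨x, x.2, (hfe ⟨x, hJN x.2⟩).trans (hθe x (hJN x.2))⟩
  obtain ⟨R₁, hR₁, -⟩ := hf.exists_img hRN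
  have hconj : E.IsConj R R₁ := (hf.restrict hRN).isConj hR₁
  have hJR₁ : abJS R₁ = J₁ :=
    SetLike.coe_injective ((abJS_image hf hRN hR₁).symm.trans hfJ)
  have hc₁ : centralizerIn T J₁ ≤ J₁ := hJR₁ ▸ centralizer_abJS_le hT
    (isCentric_of_isConj hc hconj) (Fusion.Alperin.isRadical_of_isConj hr hconj)
  refine ⟨hJT, fun Q hQ => ?_⟩
  have hJ₁Q : E.IsConj J₁ Q := isConj_trans (isConj_symm hJJ₁) hQ
  obtain ⟨g, hg, hgQ⟩ := exists_mor_of_isConj hJ₁Q
  have : Finite (centralizerIn T Q) := finite_of_le (centralizerIn_le Q)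
  have hgW : ∀ w ∈ centralizerIn T J₁, g w ∈ centralizerIn T Q := fun w hw =>
    map_centralizerIn hg le_rfl hgQ (hc₁ hw) hw
  have hinj : Function.Injective
      (fun w : centralizerIn T J₁ => (⟨g w, hgW w w.2⟩ : centralizerIn T Q)) :=
    fun a b hab => Subtype.ext (hg.injOn (hc₁ a.2) (hc₁ b.2) (congrArg Subtype.val hab))
  intro c hcQ
  obtain ⟨w, hw⟩ := (hinj.bijective_of_nat_card_le
    ((fullyCentralized_of_fullyNormalized hT hE hfn).2 Q hJ₁Q)).2 ⟨c, hcQ⟩
  exact (Set.ext_iff.1 hgQ c).1 ⟨w, hc₁ w.2, congrArg Subtype.val hw⟩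

end CfsgLib.OddVanish
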