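import Cfsg.Agent.Fus.OddVanish.Shift
import Cfsg.Agent.Fus.NormalCentralizer.Contains

/-!
An element of `C_S(T)` can be corrected inside `Z(T)` to one fixed by the canonical automorphisms
at `T` and at `J(T)`.
-/

set_option autoImplicit false

namespace CfsgLib.OddVanish

open Cfsg Cfsg.FusionSystem CfsgLib.Fus CfsgLib.NormalCent

variable {Ω : Type*} [Group Ω] {S T : Subgroup Ω} {F : Cfsg.FusionSystem S}
  {E : Cfsg.FusionSystem T} {p : ℕ} [Finite S] [Fact p.Prime]
variable (hS : IsPGroup p S) (hE : E.IsNormalIn F p)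

include hE

omit [Finite S] [Fact p.Prime] in
theorem normalizerIn_eq_top : normalizerIn S T = S := by
  refine le_antisymm (normalizerIn_le T) fun s hs => ⟨hs, Subgroup.mem_normalizer_iff.2 fun y => ?_⟩
  refine ⟨conj_mem_T hE hs, fun hy => ?_⟩
  have h1 := conj_mem_T hE (S.inv_mem hs) hy
  convert h1 using 1
  group

omit [Fact p.Prime] in
theorem isFullyNormalized_of_normal {Q : Subgroup Ω} (hQ : Q ≤ S)
    (h : normalizerIn S T ≤ normalizerIn S Q) : F.IsFullyNormalized Q := by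
  rw [normalizerIn_eq_top hE] at h
  exact ⟨hQ, fun R _ =>
    have : Finite (normalizerIn S Q) := finite_of_le (normalizerIn_le Q)
    Subgroup.card_le_of_le ((normalizerIn_le R).trans h)⟩

omit [Fact p.Prime] in
theorem tcentric_top : TCentric F T T := by
  have hTS := le_S hE
  have : Finite T := finite_of_le hTS
  refine ⟨le_rfl, fun f hf c hc _ => ?_⟩
  obtain ⟨R, hR, -⟩ := hf.exists_img (le_refl T)
  have hRT : R = T := Subgroup.eq_of_le_of_card_ge (image_le_T hE hf le_rfl le_rfl hR)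
    (hf.card_img le_rfl hR).ge
  exact (Set.ext_iff.1 hR c).2 (hRT ▸ hc)

omit [Fact p.Prime] in
theorem tcentric_abJS : TCentric F T (abJS T) := by
  have hTS := le_S hE
  have : Finite T := finite_of_le hTS
  refine ⟨abJS_le T, fun f hf c hc hcomm => ?_⟩
  obtain ⟨R, hR, -⟩ := hf.exists_img (le_refl (abJS T))
  have hRT : R ≤ T := image_le_T hE hf le_rfl (abJS_le T) hR
  have : Finite R := finite_of_le hRT
  obtain ⟨A, hA⟩ := exists_topAb R
  have hA' : TopAb T A := topAb_of_card (hA.1.trans hRT) hA.2.1 (by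
    rw [hA.card_eq, abOrd_image hf le_rfl hR, abOrd_abJS])
  have hcA : c ∈ A := hA'.mem_of_commute hc fun a ha => by
    obtain ⟨u, hu, rfl⟩ := (Set.ext_iff.1 hR a).2 (hA.1 ha)
    exact hcomm u hu
  exact (Set.ext_iff.1 hR c).2 (hA.1 hcA)

include hS

/-- The correction at `J(T)` and at `T`. -/
theorem exists_fixed_top {x : Ω} (hx : x ∈ centralizerIn S T) :
    ∃ z ∈ T, x * z ∈ centralizerIn S T ∧ FixAt F E p (x * z) T ∧
      FixAt F E p (x * z) (abJS T) := by
  have hTS := le_S hE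
  have : Finite T := finite_of_le hTS
  set J := abJS T
  have hJT : J ≤ T := abJS_le T
  have hJS : J ≤ S := hJT.trans hTS
  have hNJ : normalizerIn S T ≤ normalizerIn S J := normalizerIn_le_normalizer_abJS F hTS
  have hJn : ∀ t ∈ T, t ∈ normalizerIn T J := fun t ht =>
    ⟨ht, (hNJ ((normalizerIn_eq_top hE).ge (hTS ht))).2⟩
  -- at `J`
  have hxJ : x ∈ centralizerIn S J := centralizerIn_antitone hJT hx
  obtain ⟨z₁, hz₁, hz₁T, hz₁c, -⟩ := exists_shift hS hE (tcentric_abJS hE)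
    (isFullyNormalized_of_normal hE hJS hNJ) (pGen E p J) (autInducedBy_le_pGen hS hE hJT)
    (pGen_le J)
    (fun g hg => liftsQ_of_pGen hS hE (tcentric_abJS hE)
      (isFullyNormalized_of_normal hE hJS hNJ) hg)
    hxJ (fun t ht => hx.2 t (normalizerIn_le J ht))
  set x₁ := x * z₁
  have hz₁C : z₁ ∈ centralizerIn S T := ⟨hJS hz₁.1, fun t ht => hz₁T t (hJn t ht)⟩
  have hx₁ : x₁ ∈ centralizerIn S T := Subgroup.mul_mem _ hx hz₁C
  have hfix₁ : J ≠ T → FixAt F E p x₁ J := fun hJT' β hβ => by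
    obtain ⟨a, ha, hae⟩ := hβ.adm
    exact (hz₁c a (ha.2.2.resolve_left hJT') β hβ hae).2
  -- at `T`
  obtain ⟨z₂, hz₂, hz₂T, hz₂c, hz₂K⟩ := exists_shift hS hE (tcentric_top hE)
    (isFullyNormalized_of_normal hE hTS le_rfl) (E.autGroup T)
    (autInducedBy_le_autGroup E le_rfl) le_rfl (fun g hg => liftsQ_of_top hE hg)
    hx₁ (fun t ht => hx₁.2 t ht.1)
  have hfix₂ : FixAt F E p (x₁ * z₂) T := fun β hβ => by
    obtain ⟨a, ha, hae⟩ := hβ.adm
    exact (hz₂c a ha.1 β hβ hae).2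
  refine ⟨z₁ * z₂, T.mul_mem (hJT hz₁.1) hz₂.1, ?_⟩
  rw [← mul_assoc]
  refine ⟨Subgroup.mul_mem _ hx₁ hz₂.2, hfix₂, ?_⟩
  by_cases hJT' : J = T
  · rw [hJT']
    exact hfix₂
  have hx₁J : x₁ ∈ centralizerIn S J := centralizerIn_antitone hJT hx₁
  have hx₁K : x₁ ∈ fixSub F E p J := ⟨Subgroup.mem_sup_right hx₁J, hfix₁ hJT'⟩
  have hzK : z₂ ∈ fixSub F E p J := by
    refine hz₂K _ fun γ hγ hg hd => ?_
    obtain ⟨g, -, hγg⟩ := hg
    have hγT : γ '' (T : Set Ω) = T := image_eq (hγ.restrict le_sup_left) fun t ht => by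
      rw [hγg ⟨t, ht⟩]
      exact SetLike.coe_mem _
    have h1 : FixAt F E p (γ x₁) J := fixAt_image hS hE hγ
      (sup_le (hJT.trans le_sup_left) ((Subgroup.zpowers_le.2 hx₁).trans le_sup_right)) hx₁J
      (abJS_image hγ le_sup_left hγT) (hfix₁ hJT')
    have hdJ : x₁⁻¹ * γ x₁ ∈ J ⊔ centralizerIn S J :=
      Subgroup.mem_sup_right (centralizerIn_antitone hJT hd.2)
    have h2 : γ x₁ ∈ fixSub F E p J := by
      refine ⟨?_, h1⟩
      rw [← mul_inv_cancel_left x₁ (γ x₁)]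
      exact Subgroup.mul_mem _ hx₁K.1 hdJ
    exact Subgroup.mul_mem _ (Subgroup.inv_mem _ hx₁K) h2
  exact ((fixSub F E p J).mul_mem hx₁K hzK).2

end CfsgLib.OddVanish
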