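import Cfsg.Agent.Fus.OddVanish.Local
import Cfsg.Agent.Fus.OddVanish.Top
import Cfsg.Agent.Fus.OddVanish.JCentric

/-!
An element of `C_S(T)` fixed by the extensions of the maps at larger subgroups is fixed by the
canonical automorphisms at `Q = J(Q) ≠ J(T)`.
-/

set_option autoImplicit false

namespace CfsgLib.OddVanish

open Cfsg Cfsg.FusionSystem CfsgLib.Fus CfsgLib.NormalCent

variable {Ω : Type*} [Group Ω]

/-- A map from the normalizer to that of a fully normalized conjugate. -/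
theorem exists_mor_normalizer {S : Subgroup Ω} [Finite S] {p : ℕ} [Fact p.Prime]
    (hS : IsPGroup p S) {F : Cfsg.FusionSystem S} (hF : F.IsSaturated p) {P Q : Subgroup Ω}
    (hQ : F.IsFullyNormalized Q) (h : F.IsConj P Q) :
    ∃ f : Ω → Ω, Mor F (normalizerIn S P) f ∧ f '' (P : Set Ω) = Q := by
  obtain ⟨φ, -, hφr, θ, hθ, hθe⟩ := exists_normalizer_map_fn hS hF hQ h
  obtain ⟨f, hf, hfe⟩ := exists_mor hθ
  have hPN : P ≤ normalizerIn S P := le_normalizerIn (isConj_le_right (isConj_symm h))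
  refine ⟨f, hf, ?_⟩
  rw [← hφr]
  ext y
  constructor
  · rintro ⟨x, hx, rfl⟩
    exact ⟨⟨x, hx⟩, ((hfe ⟨x, hPN hx⟩).trans (hθe ⟨x, hx⟩ (hPN hx))).symm⟩
  · rintro ⟨x, rfl⟩
    exact ⟨x, x.2, (hfe ⟨x, hPN x.2⟩).trans (hθe x (hPN x.2))⟩

variable {S T : Subgroup Ω} {F : Cfsg.FusionSystem S} {E : Cfsg.FusionSystem T} {p : ℕ}
  [Finite S] [Fact p.Prime]

/-- The normalizer of `Q = J(Q) ≠ J(T)` has a different `J`. -/
theorem abJS_normalizer_ne (hS : IsPGroup p S) (hE : E.IsNormalIn F p) {Q : Subgroup Ω}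
    (_hQT : Q ≤ T) (hQJ : Q ≠ abJS T) : abJS (normalizerIn T Q) ≠ Q := by
  intro h
  have hTS := le_S hE
  have : Finite T := finite_of_le hTS
  have hP := normalizerIn_le (S := T) Q
  by_cases hPT : normalizerIn T Q = T
  · rw [hPT] at h
    exact hQJ h.symm
  obtain ⟨g, hg, hgP⟩ := Fusion.Alperin.exists_normalizing_not_mem (hS.to_le hTS) hP hPT
  have h1 := normalizerIn_le_normalizer_abJS E hP hg
  rw [h] at h1
  exact hgP h1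

variable (hS : IsPGroup p S) (hE : E.IsNormalIn F p)

include hS hE

/-- The base of the induction. -/
theorem fixAt_base (hp : p ≠ 2) {x : Ω} (hx : x ∈ centralizerIn S T) {Q : Subgroup Ω}
    (hQ : TCentric F T Q) (hJ : abJS Q = Q) (hQJ : Q ≠ abJS T)
    (ih : ∀ (N : Subgroup Ω) (ψ : N →* Ω), ψ ∈ E.Hom N → jRank S Q < jRank S N →
      Fixes F (Subgroup.zpowers x) N ψ) : FixAt F E p x Q := by
  have hF := hE.1.2.1
  have hTS := le_S hE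
  have : Finite T := finite_of_le hTS
  have hQT : Q ≤ T := hQ.1
  -- to a subgroup fully normalized in `E`
  set P₀ := normalizerIn T Q
  have hP₀T : P₀ ≤ T := normalizerIn_le Q
  have hQP₀ : Q ≤ P₀ := le_normalizerIn hQT
  have hlt₀ : jRank S Q < jRank S P₀ := jRank_lt hQP₀ (hP₀T.trans hTS)
    (hJ.symm ▸ fun e => abJS_normalizer_ne hS hE hQT hQJ e.symm)
  obtain ⟨J₁, hQJ₁, hfn₁⟩ := exists_fullyNormalized E hQT
  obtain ⟨μ, hμ, hμQ⟩ := exists_mor_normalizer (hS.to_le hTS) hE.1.1 hfn₁ hQJ₁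
  obtain ⟨ψ₀, hψ₀, hψ₀e⟩ := hμ
  obtain ⟨f₁, hf₁, hf₁e, hf₁C⟩ := ih P₀ ψ₀ hψ₀ hlt₀
  have hxY : x ∈ Subgroup.zpowers x := Subgroup.mem_zpowers x
  have hdom₁ : Q ⊔ Subgroup.zpowers x ≤ P₀ ⊔ Subgroup.zpowers x := sup_le_sup_right hQP₀ _
  have hf₁x : f₁ x = x := hf₁C x hxY
  have hf₁Q : f₁ '' (Q : Set Ω) = J₁ := by
    rw [← hμQ]
    exact Set.image_congr fun q hq => (hf₁e ⟨q, hQP₀ hq⟩).trans (hψ₀e ⟨q, hQP₀ hq⟩)
  have hJ₁T : J₁ ≤ T := hfn₁.1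
  have hQ₁ : TCentric F T J₁ :=
    tcentric_image hE hQ (hf₁.restrict (le_sup_left.trans hdom₁)) hf₁Q
  have hJ₁S : J₁ ≤ S := hJ₁T.trans hTS
  -- to a subgroup fully normalized in `F`
  obtain ⟨J₂, hJ₁₂, hfn₂⟩ := exists_fullyNormalized F hJ₁S
  obtain ⟨f₂, hf₂, hf₂J⟩ := exists_mor_normalizer hS hF hfn₂ hJ₁₂
  set N₁ := normalizerIn S J₁
  have hJ₁N₁ : J₁ ≤ N₁ := le_normalizerIn hJ₁S
  have hxC₁ : x ∈ centralizerIn S J₁ := centralizerIn_antitone hJ₁T hx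
  have hxN₁ : x ∈ N₁ := centralizerIn_le_normalizerIn J₁ hxC₁
  have hQ₂ : TCentric F T J₂ := tcentric_image hE hQ₁ (hf₂.restrict hJ₁N₁) hf₂J
  have hJ₂T := hQ₂.1
  set P₁ := normalizerIn T J₁
  set P₂ := normalizerIn T J₂
  have hP₁T : P₁ ≤ T := normalizerIn_le J₁
  have hP₂T : P₂ ≤ T := normalizerIn_le J₂
  have hP₁N₁ : P₁ ≤ N₁ := fun t ht => ⟨hTS ht.1, ht.2⟩
  obtain ⟨M₂, hM₂, -⟩ := hf₂.exists_img (le_refl N₁)
  obtain ⟨g, hg, hgf, hfg, -⟩ := hf₂.exists_inv hM₂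
  have hfM : ∀ y ∈ N₁, f₂ y ∈ M₂ := fun y hy => (Set.ext_iff.1 hM₂ _).1 ⟨y, hy, rfl⟩
  have hmap : ∀ t ∈ P₁, f₂ t ∈ P₂ := fun t ht =>
    ⟨mor_mem_T hE hf₂ (hP₁N₁ ht) ht.1,
      (hf₂.map_normalizer hJ₁N₁ hf₂J (hP₁N₁ ht) ht.2).2⟩
  have hcard : Nat.card P₂ ≤ Nat.card P₁ := by
    obtain ⟨φ, hφ, hφe⟩ := hf₂.restrict hJ₁N₁
    obtain ⟨a, ha, φ₀, hφ₀, hfac⟩ := hE.1.2.2.2.2.2 J₁ hJ₁T φ hφ
    obtain ⟨α, hα, hαe, hαT⟩ := exists_mor_of_aut hTS ⟨a, ha⟩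
    obtain ⟨α', hα', hα'α, -, -⟩ := hα.exists_inv hαT
    have hRT : φ₀.range ≤ T := range_le E hφ₀
    have hαR : α' '' (J₂ : Set Ω) = φ₀.range := by
      have h1 : ∀ y : J₁, α' (f₂ y) = φ₀ y := fun y => by
        rw [← hφe y, hfac y (hom_mem E hφ₀ y), ← hαe ⟨φ₀ y, hom_mem E hφ₀ y⟩,
          hα'α _ (hom_mem E hφ₀ y)]
      ext y
      constructor
      · rintro ⟨_, hu, rfl⟩
        obtain ⟨v, hv, rfl⟩ := (Set.ext_iff.1 hf₂J _).2 hu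
        exact ⟨⟨v, hv⟩, (h1 ⟨v, hv⟩).symm⟩
      · rintro ⟨v, rfl⟩
        exact ⟨f₂ v, (Set.ext_iff.1 hf₂J _).1 ⟨v, v.2, rfl⟩, h1 v⟩
    have : Finite (normalizerIn T φ₀.range) := finite_of_le (normalizerIn_le _)
    refine (hα'.card_le hP₂T fun t ht => ?_).trans (hfn₁.2 _ ⟨φ₀, hφ₀, rfl⟩)
    exact ⟨mor_mem_T hE hα' ht.1 ht.1, (hα'.map_normalizer hJ₂T hαR ht.1 ht.2).2⟩
  have hsurj : ∀ t ∈ P₂, ∃ s ∈ P₁, f₂ s = t := by
    intro t ht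
    have : Finite P₂ := finite_of_le hP₂T
    have hinj : Function.Injective (fun s : P₁ => (⟨f₂ s, hmap s s.2⟩ : P₂)) := fun a b hab =>
      Subtype.ext (hf₂.injOn (hP₁N₁ a.2) (hP₁N₁ b.2) (congrArg Subtype.val hab))
    obtain ⟨s, hs⟩ := (hinj.bijective_of_nat_card_le hcard).2 ⟨t, ht⟩
    exact ⟨s, s.2, congrArg Subtype.val hs⟩
  have hP₂M : P₂ ≤ M₂ := fun t ht => by
    obtain ⟨s, hs, rfl⟩ := hsurj t ht
    exact hfM s (hP₁N₁ hs)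
  have hgP : ∀ t ∈ P₂, g t ∈ P₁ := fun t ht => by
    obtain ⟨s, hs, rfl⟩ := hsurj t ht
    rw [hgf s (hP₁N₁ hs)]
    exact hs
  set x' := f₂ x
  have hx'W : x' ∈ centralizerIn S J₂ := map_centralizerIn hf₂ hJ₁N₁ hf₂J hxN₁ hxC₁
  have hx'T : ∀ t ∈ P₂, t * x' = x' * t := fun t ht => by
    obtain ⟨s, hs, rfl⟩ := hsurj t ht
    rw [← hf₂.map_mul (hP₁N₁ hs) hxN₁, hx.2 s hs.1, hf₂.map_mul hxN₁ (hP₁N₁ hs)]
  have hJ₁J : abJS J₁ = J₁ := by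
    refine SetLike.coe_injective ?_
    rw [← abJS_image hf₁ (le_sup_left.trans hdom₁) hf₁Q, hJ, hf₁Q]
  have hJ₂J : abJS J₂ = J₂ := by
    refine SetLike.coe_injective ?_
    rw [← abJS_image hf₂ hJ₁N₁ hf₂J, hJ₁J, hf₂J]
  have hrank : jRank S J₂ = jRank S Q := (jRank_image hf₂ hJ₁N₁ hf₂J).trans
    (jRank_image hf₁ (le_sup_left.trans hdom₁) hf₁Q)
  have hJ₂ne : J₂ ≠ abJS T := fun e => by
    have h1 : jRank S Q < jRank S T := hlt₀.trans_le (jRank_mono hP₀T hTS)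
    rw [← hrank, e, jRank_abJS] at h1
    exact lt_irrefl _ h1
  have hfix₂ : FixAt F E p x' J₂ := by
    refine fixAt_of_extend hS hE hp hQ₂ hfn₂ (fun e => hJ₂ne ?_) hJ₂J
      (abJS_normalizer_ne hS hE hJ₂T hJ₂ne) hx'W hx'T fun L hJ₂L hL hLJ τ hτ hτJ => ?_
    · rw [← hJ₂J, e]
    have hτL : ∀ l ∈ L, τ l ∈ P₂ := fun l hl => hτ.map_normalizer hJ₂L hτJ hl (hL hl).2
    obtain ⟨φ, hφ, hφe⟩ := hτ
    obtain ⟨ψ, hψ, hψe⟩ := hg.restrict hP₂M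
    let L₁ := (L.subgroupOf P₂).map ψ
    obtain ⟨χ, hχ, hχe⟩ := strong_of_invariant hTS hE.1.2.2 L P₂ hL hP₂T φ hφ
      (fun l => (hφe l).symm ▸ hτL l l.2) ψ hψ
    have hgL : g '' (L : Set Ω) = L₁ := by
      ext y
      constructor
      · rintro ⟨l, hl, rfl⟩
        exact ⟨⟨l, hL hl⟩, hl, hψe ⟨l, hL hl⟩⟩
      · rintro ⟨l, hl, rfl⟩
        exact ⟨l, hl, (hψe l).symm⟩
    have hlt : jRank S Q < jRank S L₁ := by
      rw [jRank_image hg (hL.trans hP₂M) hgL, ← hrank]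
      exact jRank_lt hJ₂L ((hL.trans hP₂T).trans hTS) (hJ₂J.symm ▸ fun e => hLJ e.symm)
    obtain ⟨m₁, hm₁, hm₁e, hm₁C⟩ := ih L₁ χ hχ hlt
    have hgx : g x' = x := hgf x hxN₁
    have hdom : J₂ ⊔ Subgroup.zpowers x' ≤ M₂ :=
      sup_le ((hJ₂L.trans hL).trans hP₂M) (Subgroup.zpowers_le.2 (hfM x hxN₁))
    have hgm : ∀ y ∈ J₂ ⊔ Subgroup.zpowers x', g y ∈ L₁ ⊔ Subgroup.zpowers x := fun y hy =>
      mem_of_sup hg hdom
        (fun q hq => Subgroup.mem_sup_left ((Set.ext_iff.1 hgL _).1 ⟨q, hJ₂L hq, rfl⟩))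
        (fun v hv => zpow_image hg (hfM x hxN₁)
          (by rw [hgx]; exact Subgroup.mem_sup_right hxY) hv) hy
    have hval : ∀ q ∈ J₂, m₁ (g q) = g (τ q) := fun q hq => by
      have hmem : g q ∈ L₁ := (Set.ext_iff.1 hgL _).1 ⟨q, hJ₂L hq, rfl⟩
      have h1 := hm₁e ⟨g q, hmem⟩
      have h2 := hχe ⟨q, hJ₂L hq⟩ ((hψe _).symm ▸ hmem)
      have h3 : (⟨g q, hmem⟩ : L₁) = ⟨_, (hψe (Subgroup.inclusion hL ⟨q, hJ₂L hq⟩)).symm ▸ hmem⟩ :=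
        Subtype.ext (hψe (Subgroup.inclusion hL ⟨q, hJ₂L hq⟩)).symm
      rw [show m₁ (g q) = _ from h1, h3, h2, hψe]
      exact congrArg g (hφe ⟨q, hJ₂L hq⟩)
    have hm₁x : m₁ x = x := hm₁C x hxY
    refine ⟨f₂ ∘ (m₁ ∘ g),
      ((hg.restrict hdom).comp hm₁ hgm).comp hf₂ fun y hy => ?_, fun q hq => ?_, ?_⟩
    · refine mem_of_sup ((hg.restrict hdom).comp hm₁ hgm) le_rfl (fun q hq => ?_)
        (fun v hv => zpow_image ((hg.restrict hdom).comp hm₁ hgm)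
          (Subgroup.mem_sup_right (Subgroup.mem_zpowers x')) ?_ hv) hy
      · show m₁ (g q) ∈ N₁
        rw [hval q hq]
        exact hP₁N₁ (hgP _ (hτL q (hJ₂L hq)))
      · show m₁ (g x') ∈ N₁
        rw [hgx, hm₁x]
        exact hxN₁
    · show f₂ (m₁ (g q)) = τ q
      rw [hval q hq, hfg _ (hP₂M (hτL q (hJ₂L hq)))]
    · show f₂ (m₁ (g x')) = x'
      rw [hgx, hm₁x]
  -- back to `Q`
  have hgJ : g '' (J₂ : Set Ω) = J₁ := by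
    ext y
    constructor
    · rintro ⟨_, hu, rfl⟩
      obtain ⟨v, hv, rfl⟩ := (Set.ext_iff.1 hf₂J _).2 hu
      rw [hgf v (hJ₁N₁ hv)]
      exact hv
    · intro hy
      exact ⟨f₂ y, (Set.ext_iff.1 hf₂J _).1 ⟨y, hy, rfl⟩, hgf y (hJ₁N₁ hy)⟩
  have hfix₁ : FixAt F E p x J₁ := by
    have h1 := fixAt_image hS hE hg
      (sup_le (((le_normalizerIn hJ₂T).trans le_rfl).trans hP₂M)
        (Subgroup.zpowers_le.2 (hfM x hxN₁))) hx'W hgJ hfix₂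
    rwa [hgf x hxN₁] at h1
  obtain ⟨R₁, hR₁, -⟩ := hf₁.exists_img hdom₁
  obtain ⟨g₁, hg₁, hg₁f, -, -⟩ := (hf₁.restrict hdom₁).exists_inv hR₁
  have hJ₁R₁ : J₁ ⊔ Subgroup.zpowers x ≤ R₁ := sup_le (fun y hy => by
      obtain ⟨q, hq, rfl⟩ := (Set.ext_iff.1 hf₁Q y).2 hy
      exact (Set.ext_iff.1 hR₁ _).1 ⟨q, Subgroup.mem_sup_left hq, rfl⟩)
    (Subgroup.zpowers_le.2 ((Set.ext_iff.1 hR₁ _).1 ⟨x, Subgroup.mem_sup_right hxY, hf₁x⟩))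
  have hg₁Q : g₁ '' (J₁ : Set Ω) = Q := by
    ext y
    constructor
    · rintro ⟨_, hu, rfl⟩
      obtain ⟨v, hv, rfl⟩ := (Set.ext_iff.1 hf₁Q _).2 hu
      rw [hg₁f v (Subgroup.mem_sup_left hv)]
      exact hv
    · intro hy
      exact ⟨f₁ y, (Set.ext_iff.1 hf₁Q _).1 ⟨y, hy, rfl⟩, hg₁f y (Subgroup.mem_sup_left hy)⟩
  have h2 := fixAt_image hS hE hg₁ hJ₁R₁ hxC₁ hg₁Q hfix₁
  have h3 : g₁ x = x := by
    conv_lhs => rw [← hf₁x]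
    exact hg₁f x (Subgroup.mem_sup_right hxY)
  rwa [h3] at h2

end CfsgLib.OddVanish
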