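import Cfsg.Agent.Fus.OddVanish.AbJ
import Cfsg.Agent.WeakClosureJ.MaxAbelian

/-!
An abelian subgroup of largest order outside `J` normalized by an abelian normal subgroup `V`
centralized by `J`, by Thompson replacement; it acts quadratically on `V`.
-/

set_option autoImplicit false

namespace CfsgLib.OddVanish

open Cfsg CfsgLib.Fus CfsgLib.WeakClosureJ

variable {Ω : Type*} [Group Ω]

theorem exists_normalized_member {R V J : Subgroup Ω} [Finite R] {p : ℕ} [Fact p.Prime]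
    (hR : IsPGroup p R) (hVR : V ≤ R) (hRV : R ≤ Subgroup.normalizer (V : Set Ω))
    (hVc : IsMulCommutative V) (hVJ : ∀ j ∈ J, ∀ v ∈ V, j * v = v * j) (hne : ¬ abJS R ≤ J) :
    ∃ A, TopAb R A ∧ ¬ A ≤ J ∧ V ≤ Subgroup.normalizer (A : Set Ω) := by
  have hex : ∃ A, TopAb R A ∧ ¬ A ≤ J := by
    by_contra h
    exact hne (sSup_le fun A hA => not_not.1 fun hAJ => h ⟨A, hA, hAJ⟩)
  have hfin : {A : Subgroup Ω | TopAb R A ∧ ¬ A ≤ J}.Finite := by
    refine Set.Finite.subset (Set.finite_range fun B : Subgroup R => B.map R.subtype) ?_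
    rintro A ⟨hA, -⟩
    exact ⟨A.subgroupOf R, Subgroup.map_subgroupOf_eq_of_le hA.1⟩
  obtain ⟨A, ⟨hA, hAJ⟩, hmax⟩ := Set.exists_max_image _
    (fun A : Subgroup Ω => Nat.card (A ⊓ V : Subgroup Ω)) hfin hex
  refine ⟨A, hA, hAJ, ?_⟩
  by_contra hnot
  have hcardOf : ∀ B : Subgroup R, Nat.card (B.map R.subtype) = Nat.card B := fun B =>
    Subgroup.card_map_of_injective R.subtype_injective
  have hA₀ : A.subgroupOf R ∈ maxAb (⊤ : Subgroup R) := by
    refine ⟨le_top, CfsgLib.GlaubermanZJ.isMulCommutative_subgroupOf hA.2.1, fun B _ hBc => ?_⟩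
    rw [← hcardOf B, ← hcardOf (A.subgroupOf R), Subgroup.map_subgroupOf_eq_of_le hA.1]
    exact hA.2.2 _ (Subgroup.map_subtype_le _) (CfsgLib.GlaubermanZJ.isMulCommutative_map _ hBc)
  have hnot₀ : ¬ V.subgroupOf R ≤ Subgroup.normalizer ((A.subgroupOf R : Subgroup R) : Set R) := by
    intro h
    refine hnot fun v hv => Subgroup.mem_normalizer_iff.2 fun y => ?_
    have key : ∀ v ∈ V, ∀ y ∈ A, v * y * v⁻¹ ∈ A := fun v hv y hy => by
      have h1 := (Subgroup.mem_normalizer_iff.1 (h (show (⟨v, hVR hv⟩ : R) ∈ V.subgroupOf R from hv))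
        ⟨y, hA.1 hy⟩).1 hy
      exact h1
    refine ⟨key v hv y, fun hy => ?_⟩
    have h1 := key v⁻¹ (V.inv_mem hv) _ hy
    convert h1 using 1
    group
  have hnormal : (⊤ : Subgroup R) ≤ Subgroup.normalizer ((V.subgroupOf R : Subgroup R) : Set R) := by
    intro r _
    refine Subgroup.mem_normalizer_iff.2 fun y => ?_
    exact Subgroup.mem_normalizer_iff.1 (hRV r.2) (y : Ω)
  obtain ⟨A₁, hA₁, hlt, hA₁N⟩ := exists_replacement (hR.to_subgroup ⊤) le_top hnormal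
    (CfsgLib.GlaubermanZJ.isMulCommutative_subgroupOf hVc) hA₀ hnot₀
  have hA' : TopAb R (A₁.map R.subtype) := by
    refine topAb_of_card (Subgroup.map_subtype_le _)
      (CfsgLib.GlaubermanZJ.isMulCommutative_map _ hA₁.2.1) ?_
    rw [← hA.card_eq, hcardOf]
    have h1 := hA₁.2.2 _ le_top hA₀.2.1
    rwa [← hcardOf (A.subgroupOf R), Subgroup.map_subgroupOf_eq_of_le hA.1] at h1
  by_cases hA'J : A₁.map R.subtype ≤ J
  · refine hnot fun v hv => Subgroup.mem_normalizer_iff.2 fun y => ?_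
    obtain ⟨w, hw, rfl⟩ := hA'.mem_of_commute (hVR hv) fun a ha => hVJ a (hA'J ha) v hv
    have key : ∀ w ∈ A₁, ∀ y ∈ A, (w : Ω) * y * (w : Ω)⁻¹ ∈ A := fun w hw y hy =>
      (Subgroup.mem_normalizer_iff.1 (hA₁N hw) ⟨y, hA.1 hy⟩).1 hy
    refine ⟨key w hw y, fun hy => ?_⟩
    have h1 := key w⁻¹ (A₁.inv_mem hw) _ hy
    convert h1 using 1
    simp [mul_assoc]
  · refine absurd (hmax _ ⟨hA', hA'J⟩) (not_le.2 ?_)
    have h1 : Nat.card (A.subgroupOf R ⊓ V.subgroupOf R : Subgroup R) <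
        Nat.card (A₁ ⊓ V.subgroupOf R : Subgroup R) := by
      refine lt_of_le_of_ne (Subgroup.card_le_of_le hlt.le) fun e => hlt.ne ?_
      exact Subgroup.eq_of_le_of_card_ge hlt.le e.ge
    rw [← hcardOf, ← hcardOf (A₁ ⊓ _), Subgroup.map_inf _ _ _ R.subtype_injective,
      Subgroup.map_inf _ _ _ R.subtype_injective, Subgroup.map_subgroupOf_eq_of_le hA.1,
      Subgroup.map_subgroupOf_eq_of_le hVR] at h1
    exact h1

/-- `J ⊔ A` acts quadratically on `V`. -/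
theorem quadratic_sup {R V J A : Subgroup Ω} (hRV : R ≤ Subgroup.normalizer (V : Set Ω))
    (hVJ : ∀ j ∈ J, ∀ v ∈ V, j * v = v * j) (hA : A ≤ R) (hAc : IsMulCommutative A)
    (hVA : V ≤ Subgroup.normalizer (A : Set Ω)) {y : Ω} (hy : y ∈ J ⊔ A) {v : Ω} (hv : v ∈ V) :
    y * (y * v * y⁻¹ * v⁻¹) * y⁻¹ = y * v * y⁻¹ * v⁻¹ := by
  have hAV : ∀ a ∈ A, ∀ u ∈ V, a * u * a⁻¹ ∈ V := fun a ha u hu =>
    (Subgroup.mem_normalizer_iff.1 (hRV (hA ha)) u).1 hu
  let K : Subgroup Ω :=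
    { carrier := {z | ∃ a ∈ A, ∀ u ∈ V, z * u * z⁻¹ = a * u * a⁻¹}
      one_mem' := ⟨1, A.one_mem, fun u _ => rfl⟩
      mul_mem' := by
        rintro z w ⟨a, ha, hae⟩ ⟨b, hb, hbe⟩
        refine ⟨a * b, A.mul_mem ha hb, fun u hu => ?_⟩
        rw [show z * w * u * (z * w)⁻¹ = z * (w * u * w⁻¹) * z⁻¹ by group, hbe u hu,
          hae _ (hAV b hb u hu)]
        group
      inv_mem' := by
        rintro z ⟨a, ha, hae⟩
        refine ⟨a⁻¹, A.inv_mem ha, fun u hu => ?_⟩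
        have h1 := hae _ (hAV a⁻¹ (A.inv_mem ha) u hu)
        rw [show a * (a⁻¹ * u * a⁻¹⁻¹) * a⁻¹ = u by group] at h1
        conv_lhs => rw [← h1]
        group }
  have hJK : J ≤ K := fun j hj => ⟨1, A.one_mem, fun u hu => by
    rw [hVJ j hj u hu, mul_inv_cancel_right]; group⟩
  have hAK : A ≤ K := fun a ha => ⟨a, ha, fun u _ => rfl⟩
  obtain ⟨a, ha, hae⟩ := (sup_le hJK hAK : J ⊔ A ≤ K) hy
  have he : y * v * y⁻¹ * v⁻¹ ∈ V := by
    rw [hae v hv]
    exact V.mul_mem (hAV a ha v hv) (V.inv_mem hv)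
  rw [hae _ he, hae v hv]
  have h2 : a * v * a⁻¹ * v⁻¹ ∈ A := by
    rw [show a * v * a⁻¹ * v⁻¹ = a * (v * a⁻¹ * v⁻¹) by group]
    exact A.mul_mem ha ((Subgroup.mem_normalizer_iff.1 (hVA hv) a⁻¹).1 (A.inv_mem ha))
  rw [CfsgLib.GlaubermanZJ.isMulCommutative_apply hAc ha h2, mul_inv_cancel_right]

end CfsgLib.OddVanish
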