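import Cfsg.Agent.Fus.OddVanish.Shift
import Cfsg.Agent.Fus.OddVanish.Quadratic

/-!
The local vanishing at a fully normalized `Q = J(Q)` with `J(N_T(Q)) ≠ Q`, `p` odd: an element
centralizing `N_T(Q)` fixed by the extensions of the larger subgroups is fixed at `Q`.
-/

set_option autoImplicit false

namespace CfsgLib.OddVanish

open Cfsg Cfsg.FusionSystem CfsgLib.Fus CfsgLib.NormalCent

variable {Ω : Type*} [Group Ω] {S T : Subgroup Ω} {F : Cfsg.FusionSystem S}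
  {E : Cfsg.FusionSystem T} {p : ℕ}

/-- The elements of `N_T(Q)` whose conjugation lies in `B`. -/
def preimageIn (T : Subgroup Ω) {Q : Subgroup Ω} (M : Subgroup (MulAut Q)) (B : Subgroup M) :
    Subgroup Ω where
  carrier := {t | ∃ ht : t ∈ normalizerIn T Q, ∃ b ∈ B, (b : MulAut Q) = conjAut ht.2}
  one_mem' := ⟨Subgroup.one_mem _, 1, B.one_mem,
    MulEquiv.ext fun q => Subtype.ext (by simp [conjAut_apply])⟩
  mul_mem' := by
    rintro s t ⟨hs, b, hb, hbe⟩ ⟨ht, c, hc, hce⟩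
    refine ⟨Subgroup.mul_mem _ hs ht, b * c, B.mul_mem hb hc, ?_⟩
    rw [Subgroup.coe_mul, hbe, hce]
    refine MulEquiv.ext fun q => Subtype.ext ?_
    simp [conjAut_apply, mul_assoc]
  inv_mem' := by
    rintro s ⟨hs, b, hb, hbe⟩
    refine ⟨Subgroup.inv_mem _ hs, b⁻¹, B.inv_mem hb, ?_⟩
    rw [InvMemClass.coe_inv, hbe, inv_eq_iff_mul_eq_one]
    refine MulEquiv.ext fun q => Subtype.ext ?_
    simp [conjAut_apply, mul_assoc]

theorem preimageIn_le {Q : Subgroup Ω} (M : Subgroup (MulAut Q)) (B : Subgroup M) :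
    preimageIn T M B ≤ normalizerIn T Q := fun _ h => h.1

theorem preimageIn_mono {Q : Subgroup Ω} {M : Subgroup (MulAut Q)} {B C : Subgroup M}
    (h : B ≤ C) : preimageIn T M B ≤ preimageIn T M C := by
  rintro t ⟨ht, b, hb, hbe⟩
  exact ⟨ht, b, h hb, hbe⟩

variable [Finite S] [Fact p.Prime]

/-- An element `g` carrying the image `B` of a subgroup of `N_T(Q)` to another one extends. -/
theorem exists_extension (hS : IsPGroup p S) (hE : E.IsNormalIn F p) {Q : Subgroup Ω}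
    (hQ : TCentric F T Q) (hfn : F.IsFullyNormalized Q) {M : Subgroup (MulAut Q)}
    (hME : M ≤ E.autGroup Q) {B : Subgroup M} (hB : B ≤ (Cfsg.autInducedBy T Q).subgroupOf M)
    {g : M}
    (hgB : B.map (MulAut.conj g).toMonoidHom ≤ (Cfsg.autInducedBy T Q).subgroupOf M)
    (hQB : Q ≤ preimageIn T M B) :
    ∃ τ : Ω → Ω, Mor E (preimageIn T M B) τ ∧
      (∀ q : Q, τ q = (((g : MulAut Q) q : Q) : Ω)) ∧
      τ '' (preimageIn T M B : Set Ω) = preimageIn T M (B.map (MulAut.conj g).toMonoidHom) := by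
  have hTS := le_S hE
  have : Finite T := finite_of_le hTS
  obtain ⟨σ, hσ, hσg, hσQ⟩ := exists_mor_of_aut hQ.1 ⟨(g : MulAut Q), hME g.2⟩
  have hrec := (fullyNormalized_props (hS.to_le hTS) hE.1.1
    (fullyNormalized_sub hS hE hQ.1 hfn)).2
  have hlift : ∀ l (hl : l ∈ normalizerIn T Q) (b : M), (b : MulAut Q) = conjAut hl.2 →
      g * b * g⁻¹ ∈ (Cfsg.autInducedBy T Q).subgroupOf M →
      ∃ t ∈ T, ∀ q ∈ Q, σ (l * q * l⁻¹) = t * σ q * t⁻¹ := by
    intro l hl b hbe hmem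
    obtain ⟨t, ht, hte⟩ := mem_autInducedBy_iff.1
      (show ((g * b * g⁻¹ : M) : MulAut Q) ∈ Cfsg.autInducedBy T Q from hmem)
    have h0 : ∀ q : Q, ((g * b * g⁻¹ : M) : MulAut Q) ((g : MulAut Q) q) =
        (g : MulAut Q) (conjAut hl.2 q) := fun q => by
      simp [Subgroup.coe_mul, MulAut.mul_apply, hbe]
    refine ⟨t, ht, fun q hq => ?_⟩
    rw [show σ q = _ from hσg ⟨q, hq⟩, ← hte, h0 ⟨q, hq⟩]
    exact hσg (conjAut hl.2 ⟨q, hq⟩)
  obtain ⟨τ, hτ, hτσ⟩ := hσ.exists_ext hσQ hrec hQB (preimageIn_le M B) (by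
    rintro l ⟨hl, b, hb, hbe⟩
    exact hlift l hl b hbe (hgB ⟨b, hb, rfl⟩))
  have hτg : ∀ q : Q, τ q = (((g : MulAut Q) q : Q) : Ω) := fun q =>
    (hτσ q q.2).trans (hσg q)
  have hτQ : τ '' (Q : Set Ω) = Q := by
    rw [Set.image_congr hτσ, hσQ]
  have hτN : ∀ l, ∀ hl : l ∈ preimageIn T M B, τ l ∈ normalizerIn T Q := fun l hl =>
    hτ.map_normalizer hQB hτQ hl hl.1.2
  have hτconj : ∀ l, ∀ hl : l ∈ preimageIn T M B, ∀ b : M, (b : MulAut Q) = conjAut hl.1.2 →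
      ((g * b * g⁻¹ : M) : MulAut Q) = conjAut (hτN l hl).2 := by
    intro l hl b hbe
    refine MulEquiv.ext fun q' => ?_
    obtain ⟨q, rfl⟩ := (g : MulAut Q).surjective q'
    refine Subtype.ext ?_
    rw [conjAut_apply, ← hτg q, ← hτ.map_conj hl (hQB q.2),
      show τ (l * q * l⁻¹) = _ from hτg (conjAut hl.1.2 q)]
    simp [Subgroup.coe_mul, MulAut.mul_apply, hbe]
  refine ⟨τ, hτ, hτg, Set.Subset.antisymm ?_ ?_⟩
  · rintro _ ⟨l, hl, rfl⟩
    obtain ⟨hl', b, hb, hbe⟩ := id hl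
    exact ⟨hτN l hl, g * b * g⁻¹, ⟨b, hb, rfl⟩, hτconj l hl b hbe⟩
  · rintro t ⟨ht, b', ⟨b, hb, rfl⟩, hbe'⟩
    obtain ⟨l, hlT, hle⟩ := mem_autInducedBy_iff.1
      (show (b : MulAut Q) ∈ Cfsg.autInducedBy T Q from hB hb)
    have hlN : l ∈ normalizerIn T Q := ⟨hlT, mem_normalizer_of_aut hle⟩
    have hbe : (b : MulAut Q) = conjAut hlN.2 := MulEquiv.ext fun q => Subtype.ext (hle q)
    have hl : l ∈ preimageIn T M B := ⟨hlN, b, hb, hbe⟩
    have h1 : conjAut ht.2 = conjAut (hτN l hl).2 := hbe'.symm.trans (hτconj l hl b hbe)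
    have hd : (τ l)⁻¹ * t ∈ Q := by
      refine tcentric_id hQ hTS ⟨T.mul_mem (T.inv_mem (hτN l hl).1) ht.1, fun q hq => ?_⟩
      have h2 : t * q * t⁻¹ = τ l * q * (τ l)⁻¹ :=
        congrArg (fun a : MulAut Q => ((a ⟨q, hq⟩ : Q) : Ω)) h1
      calc q * ((τ l)⁻¹ * t) = (τ l)⁻¹ * (τ l * q * (τ l)⁻¹) * t := by group
        _ = (τ l)⁻¹ * (t * q * t⁻¹) * t := by rw [h2]
        _ = (τ l)⁻¹ * t * q := by group
    obtain ⟨q, hq, hqe⟩ := (Set.ext_iff.1 hτQ _).2 hd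
    refine ⟨l * q, (preimageIn T M B).mul_mem hl (hQB hq), ?_⟩
    rw [hτ.map_mul hl (hQB hq), hqe, mul_inv_cancel_left]

variable (hS : IsPGroup p S) (hE : E.IsNormalIn F p)

include hS hE

/-- The local vanishing. -/
theorem fixAt_of_extend (hp : p ≠ 2) {Q : Subgroup Ω} (hQ : TCentric F T Q)
    (hfn : F.IsFullyNormalized Q) (hQT : Q ≠ T) (hJ : abJS Q = Q)
    (hne : abJS (normalizerIn T Q) ≠ Q) {x : Ω} (hxW : x ∈ centralizerIn S Q)
    (hxT : ∀ t ∈ normalizerIn T Q, t * x = x * t)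
    (hext : ∀ L : Subgroup Ω, Q ≤ L → L ≤ normalizerIn T Q → abJS L ≠ Q →
      ∀ τ : Ω → Ω, Mor E L τ → τ '' (Q : Set Ω) = Q →
        ∃ m : Ω → Ω, Mor F (Q ⊔ Subgroup.zpowers x) m ∧ (∀ q ∈ Q, m q = τ q) ∧ m x = x) :
    FixAt F E p x Q := by
  classical
  have hTS := le_S hE
  have hQS : Q ≤ S := hQ.1.trans hTS
  have : Finite Q := finite_of_le hQS
  have := finite_mulAut Q
  have : Finite T := finite_of_le hTS
  set M := pGen E p Q with hM
  have hUM : Cfsg.autInducedBy T Q ≤ M := autInducedBy_le_pGen hS hE hQ.1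
  have hME : M ≤ E.autGroup Q := pGen_le Q
  have hlift : ∀ g ∈ M, LiftsQ F Q g := fun g hg => liftsQ_of_pGen hS hE hQ hfn hg
  obtain ⟨z, hz, hzT, hzc, -⟩ := exists_shift hS hE hQ hfn M hUM hME hlift hxW hxT
  set H := normalizerIn T Q with hH
  have hHT : H ≤ T := normalizerIn_le Q
  have : Finite H := finite_of_le hHT
  have hQH : Q ≤ H := le_normalizerIn hQ.1
  set U₀ : Subgroup M := (Cfsg.autInducedBy T Q).subgroupOf M
  have hUp : IsPGroup p U₀ :=
    (isPGroup_autInducedBy (hS.to_le hTS) Q).comap_of_injective _ (Subgroup.subtype_injective _)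
  have hU₀ : ¬ p ∣ U₀.index := fun h => (Fact.out : p.Prime).coprime_iff_not_dvd.1
    (Nat.Coprime.symm (index_autInducedBy_coprime hS hE hQ.1 hfn hUM hME)) h
  let : CommGroup (zSub S Q) := { (inferInstance : Group (zSub S Q)) with
    mul_comm := fun a b => Subtype.ext (comm_of_mem a.2.1 b.2.2) }
  have hVp : IsPGroup p (zSub S Q) := hS.to_le (inf_le_left.trans hQS)
  let φ : M →* MulAut (zSub S Q) := (zAct hQS).comp M.subtype
  let 𝒜 : Set (Subgroup M) :=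
    {B | B ≤ U₀ ∧ Q ≤ preimageIn T M B ∧ (∀ b ∈ B, Quad φ b) ∧ abJS (preimageIn T M B) ≠ Q}
  -- a member
  have hQ0 : ∀ y ∈ H, ∀ v ∈ zSub S Q, y * v * y⁻¹ ∈ zSub S Q := fun y hy v hv =>
    aut_mem_zSub hQS (conjAut hy.2) hv
  have hHV : H ≤ Subgroup.normalizer (zSub S Q : Set Ω) := fun y hy => by
    refine Subgroup.mem_normalizer_iff.2 fun v => ⟨hQ0 y hy v, fun hv => ?_⟩
    have h1 := hQ0 y⁻¹ (H.inv_mem hy) _ hv
    convert h1 using 1
    group
  have hVJ : ∀ j ∈ Q, ∀ v ∈ zSub S Q, j * v = v * j := fun j hj v hv => hv.2.2 j hj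
  have hVc : IsMulCommutative (zSub S Q) := ⟨⟨fun a b => mul_comm a b⟩⟩
  have hJne : ¬ abJS H ≤ Q := fun h => hne <| by
    have he : abOrd Q = abOrd H := le_antisymm (abOrd_mono hQH)
      ((abOrd_abJS H).ge.trans (abOrd_mono h))
    exact le_antisymm h (hJ.ge.trans (abJS_mono hQH he))
  obtain ⟨A, hA, hAQ, hVA⟩ := exists_normalized_member (hS.to_le (hHT.trans hTS))
    (inf_le_left.trans hQH) hHV hVc hVJ hJne
  obtain ⟨B₀, hB₀⟩ : ∃ B₀, B₀ ∈ 𝒜 := by
    let K : Subgroup M :=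
      { carrier := {b | ∃ y ∈ Q ⊔ A, ∀ q : Q, (((b : MulAut Q) q : Q) : Ω) = y * q * y⁻¹}
        one_mem' := ⟨1, Subgroup.one_mem _, fun q => by simp⟩
        mul_mem' := by
          rintro b c ⟨y, hy, hye⟩ ⟨w, hw, hwe⟩
          refine ⟨y * w, Subgroup.mul_mem _ hy hw, fun q => ?_⟩
          rw [Subgroup.coe_mul, MulAut.mul_apply, hye, hwe]
          group
        inv_mem' := by
          rintro b ⟨y, hy, hye⟩
          refine ⟨y⁻¹, Subgroup.inv_mem _ hy, fun q => ?_⟩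
          have h1 := hye ((b : MulAut Q)⁻¹ q)
          rw [MulAut.apply_inv_self] at h1
          rw [InvMemClass.coe_inv, h1]
          group }
    have hle : Q ⊔ A ≤ preimageIn T M K := fun y hy =>
      have hyH : y ∈ H := sup_le hQH hA.1 hy
      ⟨hyH, ⟨conjAut hyH.2, hUM (conjAut_mem_autInducedBy hyH.2 hyH.1)⟩,
        ⟨y, hy, fun _ => rfl⟩, rfl⟩
    refine ⟨K, ?_, le_sup_left.trans hle, ?_, fun h => hAQ ?_⟩
    · rintro b ⟨y, hy, hye⟩
      exact mem_autInducedBy_iff.2 ⟨y, hHT (sup_le hQH hA.1 hy), hye⟩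
    · rintro b ⟨y, hy, hye⟩ w
      refine Subtype.ext ?_
      have hφb : ∀ u : zSub S Q, (φ b u : Ω) = y * u * y⁻¹ := fun u => hye ⟨u, u.2.1⟩
      rw [hφb, div_eq_mul_inv, Subgroup.coe_mul, InvMemClass.coe_inv, hφb]
      exact quadratic_sup hHV hVJ hA.1 hA.2.1 hVA hy w.2
    · have : Finite (preimageIn T M K) := finite_of_le ((preimageIn_le M K).trans hHT)
      have h1 : TopAb (preimageIn T M K) A := topAb_of_card (le_sup_right.trans hle) hA.2.1
        ((abOrd_mono (preimageIn_le M K)).trans hA.card_eq.ge)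
      exact h ▸ h1.le_abJS
  have hweak : ∀ B ∈ 𝒜, ∀ g : M, B.map (MulAut.conj g).toMonoidHom ≤ U₀ →
      B.map (MulAut.conj g).toMonoidHom ∈ 𝒜 := by
    rintro B ⟨hBU, hQB, hBq, hBJ⟩ g hg
    obtain ⟨τ, hτ, hτg, hτim⟩ := exists_extension hS hE hQ hfn hME hBU hg hQB
    have hτQ : τ '' (Q : Set Ω) = Q := by
      ext y
      refine ⟨?_, fun hy => ?_⟩
      · rintro ⟨q, hq, rfl⟩
        rw [hτg ⟨q, hq⟩]
        exact SetLike.coe_mem _
      · obtain ⟨q, hq⟩ := (g : MulAut Q).surjective ⟨y, hy⟩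
        exact ⟨q, q.2, by rw [hτg q, hq]⟩
    refine ⟨hg, fun y hy => ?_, ?_, fun h => hBJ ?_⟩
    · obtain ⟨q, hq, rfl⟩ := (Set.ext_iff.1 hτQ y).2 hy
      exact (Set.ext_iff.1 hτim _).1 ⟨q, hQB hq, rfl⟩
    · rintro _ ⟨b, hb, rfl⟩
      exact (hBq b hb).conj φ g
    · have h1 := abJS_image hτ le_rfl hτim
      rw [h, ← hτQ] at h1
      exact SetLike.coe_injective
        ((hτ.injOn.image_eq_image_iff (abJS_le _) hQB).1 h1)
  -- the join of the family
  set W : Subgroup M := sSup 𝒜 with hW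
  have hWU : W ≤ U₀ := sSup_le fun B hB => hB.1
  have hWle : ∀ B ∈ 𝒜, preimageIn T M B ≤ preimageIn T M W := fun B hB =>
    preimageIn_mono (le_sSup hB)
  have hQW : Q ≤ preimageIn T M W := hB₀.2.1.trans (hWle _ hB₀)
  have hWJ : abJS (preimageIn T M W) ≠ Q := fun h => by
    have h1 : jRank S Q < jRank S (preimageIn T M B₀) :=
      jRank_lt hB₀.2.1 (((preimageIn_le M B₀).trans hHT).trans hTS)
        (hJ.symm ▸ fun e => hB₀.2.2.2 e.symm)
    have h2 := jRank_mono (S := S) (hWle _ hB₀) (((preimageIn_le M W).trans hHT).trans hTS)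
    have : Finite (preimageIn T M W) := finite_of_le ((preimageIn_le M W).trans hHT)
    rw [← jRank_abJS (X := preimageIn T M W), h] at h2
    omega
  let zz : zSub S Q := ⟨z, hz⟩
  have hUz : ∀ u ∈ U₀, φ u zz = zz := fun u hu => by
    obtain ⟨t, ht, hte⟩ := mem_autInducedBy_iff.1
      (show (u : MulAut Q) ∈ Cfsg.autInducedBy T Q from hu)
    refine Subtype.ext ?_
    show (((u : MulAut Q) ⟨z, hz.1⟩ : Q) : Ω) = z
    rw [hte, hzT t ⟨ht, mem_normalizer_of_aut hte⟩, mul_inv_cancel_right]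
  let Fz : Subgroup M :=
    { carrier := {g | φ g zz = zz}
      one_mem' := by simp
      mul_mem' := fun {a b} (ha : φ a zz = zz) (hb : φ b zz = zz) => by
        show φ (a * b) zz = zz
        rw [map_mul, MulAut.mul_apply, hb, ha]
      inv_mem' := fun {a} (ha : φ a zz = zz) => by
        show φ a⁻¹ zz = zz
        conv_lhs => rw [← ha]
        rw [map_inv, MulAut.inv_apply_self] }
  -- the normalizer of the join
  have hUN : U₀ ≤ Subgroup.normalizer (W : Set M) := fun u hu => by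
    have key : ∀ u ∈ U₀, ∀ w ∈ W, u * w * u⁻¹ ∈ W := fun u hu w hw => by
      refine (sSup_le fun B hB => ?_ : W ≤ W.comap (MulAut.conj u).toMonoidHom) hw
      refine Subgroup.map_le_iff_le_comap.1 (le_sSup (hweak B hB u ?_))
      rintro _ ⟨b, hb, rfl⟩
      exact U₀.mul_mem (U₀.mul_mem hu (hB.1 hb)) (U₀.inv_mem hu)
    refine Subgroup.mem_normalizer_iff.2 fun w => ⟨key u hu w, fun hw => ?_⟩
    have h1 := key u⁻¹ (U₀.inv_mem hu) _ hw
    convert h1 using 1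
    group
  have hNF : Subgroup.normalizer (W : Set M) ≤ Fz := by
    have h := eq_top_of_sylow_of_coprime ((hUp.toSylow hU₀).subtype hUN)
      (D := Fz.subgroupOf (Subgroup.normalizer (W : Set M))) (fun u hu => hUz _ hu) ?_
    · exact Subgroup.subgroupOf_eq_top.1 h
    rintro ⟨n, hn⟩ hcop
    rw [Subgroup.orderOf_mk] at hcop
    have hnW : W.map (MulAut.conj n).toMonoidHom = W :=
      Subgroup.mem_normalizer_iff_map_conj_eq.1 hn
    obtain ⟨τ, hτ, hτn, hτim⟩ :=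
      exists_extension hS hE hQ hfn hME hWU (g := n) (by rw [hnW]; exact hWU) hQW
    have hτQ : τ '' (Q : Set Ω) = Q :=
      image_eq (hτ.restrict hQW) fun q hq => by rw [hτn ⟨q, hq⟩]; exact SetLike.coe_mem _
    obtain ⟨m, hm, hmq, hmx⟩ := hext _ hQW (preimageIn_le M W) hWJ τ hτ hτQ
    obtain ⟨β, hβ, hβn⟩ := exists_canon_of_fullyNormalized hS hE hQ hfn
      (a := (n : MulAut Q)) ⟨hME n.2, by rwa [Subgroup.orderOf_coe], Or.inr n.2⟩
    have hβx : β x = x := (hβ.fix_iff hS hE hm le_sup_left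
      (fun q hq => by rw [hmq q hq, hτn ⟨q, hq⟩, hβn ⟨q, hq⟩])
      (Subgroup.mem_sup_right (Subgroup.mem_zpowers x)) hxW
      (by rw [hmx, inv_mul_cancel]; exact Q.one_mem) ⟨1, Nat.coprime_one_left p, hmx⟩).2 hmx
    have h1 := (hzc n n.2 β hβ hβn).1
    rw [hβx, left_eq_mul, mul_inv_eq_one] at h1
    exact Subtype.ext h1.symm
  have hall : ∀ g : M, φ g zz = zz := by
    refine fixed_of_quadratic φ hVp hp (hUp.toSylow hU₀) 𝒜 (fun B hB => hB.1)
      (fun B hB => hB.2.2.1) hweak zz hUz fun g hg => hNF ?_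
    refine Subgroup.mem_normalizer_iff_map_conj_eq.2 (Subgroup.eq_of_le_of_card_ge ?_
      (Subgroup.card_map_of_injective (MulAut.conj g).injective).ge)
    rw [Subgroup.map_le_iff_le_comap]
    exact sSup_le fun B hB => Subgroup.map_le_iff_le_comap.1 (le_sSup (hg B hB))
  intro β hβ
  obtain ⟨a, ha, hae⟩ := hβ.adm
  have haM : a ∈ M := ha.2.2.resolve_left hQT
  have h2 := congrArg Subtype.val (hall ⟨a, haM⟩)
  rw [(hzc a haM β hβ hae).1]
  have h3 : ((a ⟨z, hz.1⟩ : Q) : Ω) = z := h2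
  rw [h3, mul_inv_cancel, mul_one]

end CfsgLib.OddVanish
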