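import Cfsg.Agent.Fus.OddVanish.Base

/-!
For odd `p`: every element of `C_S(T)` is, up to `T`, centralized by the maps of the normal
subsystem.
-/

set_option autoImplicit false

namespace CfsgLib.OddVanish

open Cfsg Cfsg.FusionSystem CfsgLib.Fus CfsgLib.NormalCent

variable {Ω : Type*} [Group Ω] {S T : Subgroup Ω} {F : Cfsg.FusionSystem S}
  {E : Cfsg.FusionSystem T} {p : ℕ} [Finite S] [Fact p.Prime]

/-- The measure of the induction. -/
noncomputable def key (S P : Subgroup Ω) : ℕ := jRank S P * (Nat.card S + 1) + Nat.card P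

theorem key_mono {P P' : Subgroup Ω} (h : P ≤ P') (hS : P' ≤ S) : key S P ≤ key S P' := by
  have : Finite P' := finite_of_le hS
  exact Nat.add_le_add (Nat.mul_le_mul (jRank_mono h hS) le_rfl) (Subgroup.card_le_of_le h)

omit [Finite S] in
theorem key_lt_of_jRank {P P' : Subgroup Ω} [Finite S] (hP : P ≤ S)
    (h : jRank S P < jRank S P') : key S P < key S P' := by
  have h1 : (jRank S P + 1) * (Nat.card S + 1) ≤ jRank S P' * (Nat.card S + 1) :=
    Nat.mul_le_mul h le_rfl
  have h2 := Subgroup.card_le_of_le hP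
  rw [add_mul, one_mul] at h1
  rw [key, key]
  omega

theorem key_image {F : Cfsg.FusionSystem S} {N X Y : Subgroup Ω} {f : Ω → Ω} (hf : Mor F N f)
    (hXN : X ≤ N) (hY : f '' (X : Set Ω) = Y) : key S Y = key S X := by
  rw [key, key, jRank_image hf hXN hY, hf.card_img hXN hY]

variable (hS : IsPGroup p S) (hE : E.IsNormalIn F p)

include hS hE

/-- An element fixed at `T` and at `J(T)` is fixed by extensions of all maps of `E`. -/
theorem fixes_all (hp : p ≠ 2) {x : Ω} (hx : x ∈ centralizerIn S T)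
    (hfixT : FixAt F E p x T) (hfixJ : FixAt F E p x (abJS T)) {P : Subgroup Ω} {φ : P →* Ω}
    (hφ : φ ∈ E.Hom P) : Fixes F (Subgroup.zpowers x) P φ := by
  have hTS := le_S hE
  have : Finite T := finite_of_le hTS
  have hTp : IsPGroup p T := hS.to_le hTS
  have hEs := hE.1.1
  set C₀ := Subgroup.zpowers x with hC₀
  have hC₀T : C₀ ≤ centralizerIn S T := Subgroup.zpowers_le.2 hx
  have hxY : x ∈ C₀ := Subgroup.mem_zpowers x
  suffices ∀ d, ∀ P : Subgroup Ω, ∀ φ : P →* Ω, φ ∈ E.Hom P → key S T < key S P + d →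
      Fixes F C₀ P φ from this (key S T + 1) P φ hφ (by omega)
  intro d
  induction d with
  | zero =>
    intro P φ hφ h
    have := key_mono (S := S) (hom_le E hφ) hTS
    omega
  | succ d ih =>
    intro P φ hφ
    refine CfsgLib.Fusion.Alperin.hom_induction hTp hEs
      (C := fun P φ => key S T < key S P + (d + 1) → Fixes F C₀ P φ) ?_ ?_ ?_ ?_ hφ
    · intro R hR a ha hk
      by_cases hd : key S T < key S R + d
      · exact ih R _ ((mem_autGroup_iff E hR.fullyNormalized.1).1 ha) hd
      have hRT : R ≤ T := hR.fullyNormalized.1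
      have hRS : R ≤ S := hRT.trans hTS
      have htc := tcentric_of_centric hE hR.centric
      have hCR : C₀ ≤ centralizerIn S R := hC₀T.trans (centralizerIn_antitone hRT)
      have : Finite R := finite_of_le hRS
      have := finite_mulAut R
      have hsup : R ⊔ C₀ ≤ S := sup_le hRS (hCR.trans (centralizerIn_le R))
      have hgood : ∀ (N : Subgroup Ω) (ψ : N →* Ω), ψ ∈ E.Hom N → key S R < key S N →
          Fixes F C₀ N ψ := fun N ψ hψ hlt => ih N ψ hψ (by omega)
      -- the canonical automorphisms at `R` fix `x`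
      have hfixR : FixAt F E p x R := by
        by_cases hRT' : R = T
        · rw [hRT']
          exact hfixT
        have htc₀ := tcentric_of_centric hE (isCentric_abJS hTp hEs hR.centric hR.radical)
        have hfix₀ : FixAt F E p x (abJS R) := by
          by_cases hJ : abJS R = abJS T
          · rw [hJ]
            exact hfixJ
          · refine fixAt_base hS hE hp hx htc₀ (abJS_abJS R) hJ fun N ψ hψ hlt => ?_
            rw [jRank_abJS] at hlt
            exact hgood N ψ hψ (key_lt_of_jRank hRS hlt)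
        intro β hβ
        obtain ⟨b, hb, hbe⟩ := hβ.adm
        obtain ⟨b₀, hb₀, hres⟩ := exists_restrict_abJS hRT (hb.2.2.resolve_left hRT')
        have hJR := abJS_le R
        have hord : (orderOf b₀).Coprime p := by
          refine hb.2.1.coprime_dvd_left (orderOf_dvd_of_pow_eq_one ?_)
          have h1 := hres.pow hJR (orderOf b)
          rw [pow_orderOf_eq_one] at h1
          exact h1.eq_one hJR
        obtain ⟨β₀, hβ₀, hβ₀e, -⟩ :=
          exists_canon_strong hS hE htc₀ (a := b₀) ⟨pGen_le _ hb₀, hord, Or.inr hb₀⟩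
        have hxR : x ∈ centralizerIn S R := hCR hxY
        have hxJ : x ∈ centralizerIn S (abJS R) := centralizerIn_antitone hJR hxR
        have heq : ∀ q ∈ abJS R, β q = β₀ q := fun q hq => by
          rw [hbe ⟨q, hJR hq⟩, hβ₀e ⟨q, hq⟩, hres ⟨q, hq⟩ (hJR hq)]
        have hβx : β x ∈ centralizerIn S R := hβ.map_cent hxR
        have hd : x⁻¹ * β x ∈ abJS R := tcentric_id htc₀ hTS
          ⟨hRT (hβ.comm x hxR), fun q hq => ((centralizerIn S R).mul_mem
            ((centralizerIn S R).inv_mem hxR) hβx).2 q (hJR hq)⟩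
        obtain ⟨n, -, hn, hper⟩ := hβ.per
        exact (hβ₀.fix_iff hS hE hβ.mor (hJR.trans le_sup_left) heq
          (Subgroup.mem_sup_right hxR) hxJ hd ⟨n, hn, hper x (Subgroup.mem_sup_right hxR)⟩).1
          (hfix₀ β₀ hβ₀)
      let D : Subgroup (E.autGroup R) :=
        { carrier := {b | Fixes F C₀ R (R.subtype.comp (b : MulAut R).toMonoidHom)}
          one_mem' := ⟨id, mor_id hsup, fun _ => rfl, fun _ _ => rfl⟩
          mul_mem' := fun {b c} hb hc => by
            obtain ⟨f, hf, hfb, hfC⟩ := hb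
            obtain ⟨g, hg, hgc, hgC⟩ := hc
            refine ⟨f ∘ g, hg.comp hf fun x hx => ?_, fun x => ?_, fun x hx => ?_⟩
            · exact mem_of_sup hg le_rfl
                (fun r hr => Subgroup.mem_sup_left (hgc ⟨r, hr⟩ ▸ SetLike.coe_mem _))
                (fun r hr => Subgroup.mem_sup_right ((hgC r hr).symm ▸ hr)) hx
            · show f (g x) = _
              rw [hgc x]
              exact hfb ((c : MulAut R) x)
            · show f (g x) = x
              rw [hgC x hx, hfC x hx]
          inv_mem' := fun {b} hb => by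
            obtain ⟨f, hf, hfb, hfC⟩ := hb
            have := finite_of_le hf.le
            obtain ⟨g, hg, hgf, -, -⟩ := hf.exists_inv (image_eq hf fun x hx => mem_of_sup hf le_rfl
              (fun r hr => Subgroup.mem_sup_left (hfb ⟨r, hr⟩ ▸ SetLike.coe_mem _))
              (fun r hr => Subgroup.mem_sup_right ((hfC r hr).symm ▸ hr)) hx)
            refine ⟨g, hg, fun x => ?_, fun x hx => ?_⟩
            · have h1 := hgf _ (Subgroup.mem_sup_left (((b⁻¹ : E.autGroup R) : MulAut R) x).2)
              rw [hfb (((b⁻¹ : E.autGroup R) : MulAut R) x)] at h1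
              refine Eq.trans ?_ h1
              refine congrArg g ?_
              show (x : Ω) = (((b : MulAut R) ((b : MulAut R)⁻¹ x) : R) : Ω)
              rw [MulAut.apply_inv_self]
            · conv_lhs => rw [← hfC x hx]
              exact hgf x (Subgroup.mem_sup_right hx) }
      suffices hD : D = ⊤ from (hD.symm ▸ Subgroup.mem_top (⟨a, ha⟩ : E.autGroup R) :
        (⟨a, ha⟩ : E.autGroup R) ∈ D)
      obtain ⟨-, U, hU⟩ := (fullyNormalized_props hTp hEs hR.fullyNormalized).1
      have hUD : (U : Subgroup (E.autGroup R)) ≤ D := fun b hb => by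
        rw [hU] at hb
        obtain ⟨t, ht, hte⟩ := mem_autInducedBy_iff.1
          (show (b : MulAut R) ∈ Cfsg.autInducedBy T R from hb)
        refine ⟨fun x => t * x * t⁻¹, mor_conj hsup (hTS ht), fun x => (hte x).symm,
          fun y hy => ?_⟩
        show t * y * t⁻¹ = y
        rw [(hC₀T hy).2 t ht, mul_inv_cancel_right]
      have hcop : ∀ b : E.autGroup R, (R = T ∨ (b : MulAut R) ∈ pGen E p R) →
          (orderOf b).Coprime p → b ∈ D := by
        intro b hb hco
        obtain ⟨β, hβ, hβe, -⟩ := exists_canon_strong hS hE htc (a := (b : MulAut R))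
          ⟨b.2, by rwa [Subgroup.orderOf_coe], hb⟩
        refine ⟨β, hβ.mor.restrict (sup_le le_sup_left (hCR.trans le_sup_right)), hβe,
          fun y hy => ?_⟩
        obtain ⟨i, rfl⟩ := hy
        exact ((fixSub F E p R).zpow_mem
          (show x ∈ fixSub F E p R from ⟨Subgroup.mem_sup_right (hCR hxY), hfixR⟩) i).2 β hβ
      by_cases hRT' : R = T
      · exact eq_top_of_sylow_of_coprime U hUD fun g hg => hcop g (Or.inl hRT') hg
      -- the normal subgroup generated by the `p`-elements
      let M : Subgroup (E.autGroup R) := (pGen E p R).subgroupOf (E.autGroup R)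
      have hMn : M.Normal := by
        refine ⟨fun x hx g => ?_⟩
        suffices h : pGen E p R ≤ (pGen E p R).comap (MulAut.conj (g : MulAut R)).toMonoidHom from
          h hx
        refine (Subgroup.closure_le _).2 fun b hb => Subgroup.subset_closure ⟨?_, ?_⟩
        · exact mul_mem (mul_mem g.2 hb.1) (inv_mem g.2)
        · obtain ⟨k, hk⟩ := hb.2
          refine ⟨k, ?_⟩
          show ((MulAut.conj (g : MulAut R)) b) ^ p ^ k = 1
          rw [← map_pow, hk, map_one]
      have hUM : (U : Subgroup (E.autGroup R)) ≤ M := fun b hb => by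
        obtain ⟨k, hk⟩ := U.isPGroup' ⟨b, hb⟩
        exact Subgroup.subset_closure
          ⟨b.2, k, congrArg (fun t : U => ((t : E.autGroup R) : MulAut R)) hk⟩
      have hMD : M ≤ D := by
        have h := eq_top_of_sylow_of_coprime (U.subtype hUM) (D := D.subgroupOf M)
          (fun b hb => hUD hb) fun b hb =>
            hcop b (Or.inr b.2) (by rwa [Subgroup.orderOf_coe])
        exact Subgroup.subgroupOf_eq_top.1 h
      have hND : Subgroup.normalizer ((U : Subgroup (E.autGroup R)) : Set (E.autGroup R)) ≤ D := by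
        intro n hn
        obtain ⟨g, hg, hgR⟩ := Fusion.Alperin.exists_normalizing_not_mem hTp hRT hRT'
        obtain ⟨N, hRN, ψ, hψ, hlt, he⟩ := Fusion.Alperin.exists_extend_aut hTp hEs
          hR.fullyNormalized n.2 hg.1 hg.2 hgR (by
            set c : E.autGroup R := ⟨conjAut hg.2,
              autInducedBy_le_autGroup E hRT (conjAut_mem_autInducedBy hg.2 hg.1)⟩
            have hc : c ∈ (U : Subgroup (E.autGroup R)) := by
              rw [hU]; exact conjAut_mem_autInducedBy hg.2 hg.1
            have h1 : n * c * n⁻¹ ∈ (U : Subgroup (E.autGroup R)) :=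
              (Subgroup.mem_normalizer_iff.1 hn c).1 hc
            rw [hU] at h1
            exact h1)
        have hkey : key S R < key S N := Nat.add_lt_add_of_le_of_lt
          (Nat.mul_le_mul (jRank_mono hRN ((hom_le E hψ).trans hTS)) le_rfl) hlt
        obtain ⟨f, hf, hfe, hfC⟩ := hgood N ψ hψ hkey
        refine ⟨f, hf.restrict (sup_le (hRN.trans le_sup_left) le_sup_right), fun x => ?_, hfC⟩
        rw [← he]
        exact hfe (Subgroup.inclusion hRN x)
      rw [eq_top_iff, ← Sylow.normalizer_sup_eq_top' U hUM]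
      exact sup_le hND hMD
    · intro A B hAB ψ hψ h hk
      have := key_mono (S := S) hAB ((hom_le E hψ).trans hTS)
      obtain ⟨f, hf, hfe, hfC⟩ := h (by omega)
      exact ⟨f, hf.restrict (sup_le (hAB.trans le_sup_left) le_sup_right),
        fun x => hfe (Subgroup.inclusion hAB x), hfC⟩
    · intro A B φ ψ hφ hψ h hA hB hk
      obtain ⟨f₀, hf₀, hf₀e⟩ := exists_mor hφ
      obtain ⟨A', hA', -⟩ := hf₀.exists_img (le_refl A)
      have hA'B : A' ≤ B := fun y hy => by
        obtain ⟨u, hu, rfl⟩ := (Set.ext_iff.1 hA' y).2 hy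
        rw [show f₀ u = _ from hf₀e ⟨u, hu⟩]
        exact h _
      have hkey : key S A ≤ key S B := by
        obtain ⟨φ', hφ', e'⟩ := hf₀
        rw [← key_image (F := F) ⟨φ', hE.1.2.2.1 A hφ', e'⟩ le_rfl hA']
        exact key_mono hA'B ((hom_le E hψ).trans hTS)
      obtain ⟨f, hf, hfe, hfC⟩ := hA hk
      obtain ⟨g, hg, hge, hgC⟩ := hB (by omega)
      refine ⟨g ∘ f, hf.comp hg fun x hx => mem_of_sup hf le_rfl
        (fun r hr => Subgroup.mem_sup_left (hfe ⟨r, hr⟩ ▸ h _))
        (fun r hr => Subgroup.mem_sup_right ((hfC r hr).symm ▸ hr)) hx, fun x => ?_, fun x hx => ?_⟩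
      · show g (f x) = _
        rw [hfe x]
        exact hge ⟨φ x, h x⟩
      · show g (f x) = x
        rw [hfC x hx, hgC x hx]
    · intro A B φ ψ hφ hψ hr hinv hA hk
      obtain ⟨f₀, hf₀, hf₀e⟩ := exists_mor hφ
      have hAB : f₀ '' (A : Set Ω) = B := by
        rw [← hr]
        ext y
        constructor
        · rintro ⟨u, hu, rfl⟩
          exact ⟨⟨u, hu⟩, (hf₀e ⟨u, hu⟩).symm⟩
        · rintro ⟨u, rfl⟩
          exact ⟨u, u.2, hf₀e u⟩
      obtain ⟨φ', hφ', e'⟩ := hf₀
      have hkey := key_image (F := F) ⟨φ', hE.1.2.2.1 A hφ', e'⟩ le_rfl hAB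
      obtain ⟨f, hf, hfe, hfC⟩ := hA (by omega)
      obtain ⟨M, hM, -⟩ := hf.exists_img (le_refl (A ⊔ C₀))
      obtain ⟨g, hg, hgf, -, -⟩ := hf.exists_inv hM
      have hBM : ∀ y : B, ∃ x : A, φ x = y ∧ (y : Ω) ∈ M := fun y => by
        obtain ⟨x, hx⟩ : (y : Ω) ∈ φ.range := hr.symm ▸ y.2
        exact ⟨x, hx, (Set.ext_iff.1 hM _).1 ⟨x, Subgroup.mem_sup_left x.2, (hfe x).trans hx⟩⟩
      have hle : B ⊔ C₀ ≤ M := sup_le (fun y hy => (hBM ⟨y, hy⟩).choose_spec.2) fun c hc =>
        (Set.ext_iff.1 hM _).1 ⟨c, Subgroup.mem_sup_right hc, hfC c hc⟩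
      refine ⟨g, hg.restrict hle, fun y => ?_, fun c hc => ?_⟩
      · obtain ⟨x, hx, -⟩ := hBM y
        have e : (⟨φ x, hx.symm ▸ y.2⟩ : B) = y := Subtype.ext hx
        rw [← e, hinv x]
        show g (φ x) = x
        rw [← hfe x]
        exact hgf _ (Subgroup.mem_sup_left x.2)
      · conv_lhs => rw [← hfC c hc]
        exact hgf c (Subgroup.mem_sup_right hc)

/-- For odd `p`, every element of `C_S(T)` lies in `T` times the centralizer of `E`. -/
theorem exists_mul_mem_cSub (hp : p ≠ 2) {x : Ω} (hx : x ∈ centralizerIn S T) :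
    ∃ z ∈ T, x * z ∈ cSub F E p := by
  obtain ⟨z, hzT, hxz, hfT, hfJ⟩ := exists_fixed_top hS hE hx
  refine ⟨z, hzT, ?_⟩
  refine le_cSub hS hE (Subgroup.zpowers_le.2 hxz) (fun P φ hφ => ?_) (Subgroup.mem_zpowers _)
  have hTS := le_S hE
  obtain ⟨f, ⟨ψ, hψ, e⟩, hfe, hfC⟩ := fixes_all hS hE hp hxz hfT hfJ hφ
  have hTC : ∀ t ∈ T, t ∈ centralizerIn S (Subgroup.zpowers (x * z)) := fun t ht => by
    refine ⟨hTS ht, fun c hc => ?_⟩
    have h1 : c ∈ centralizerIn S T := Subgroup.zpowers_le.2 hxz hc
    exact (h1.2 t ht).symm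
  exact ⟨hE.1.2.2.1 P hφ, fun y hy => hTC y (hom_le E hφ hy), fun y => hTC _ (hom_mem E hφ y),
    ψ, hψ, fun y => (e _).trans (hfe y), fun y => (e _).trans (hfC y y.2)⟩

end CfsgLib.OddVanish
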