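import Cfsg.Agent.Fus.NormalCentralizer.Exists
import Cfsg.Agent.Fus.OddVanish.Cocycle
import Cfsg.Agent.Fus.OddVanish.Norm
import Cfsg.Agent.Fus.OddVanish.Transport

/-!
At a fully normalized `T`-centric subgroup an element centralizing `N_T(Q)` can be moved inside
`Z(Q)` to one fixed by all canonical automorphisms, the correction being made of displacements.
-/

set_option autoImplicit false

namespace CfsgLib.OddVanish

open Cfsg Cfsg.FusionSystem CfsgLib.Fus CfsgLib.NormalCent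

variable {Ω : Type*} [Group Ω] {S T : Subgroup Ω} {F : Cfsg.FusionSystem S}
  {E : Cfsg.FusionSystem T} {p : ℕ} [Finite S] [Fact p.Prime]

/-- A subgroup fully normalized in `F` is fully normalized in `E`. -/
theorem fullyNormalized_sub (hS : IsPGroup p S) (hE : E.IsNormalIn F p) {Q : Subgroup Ω}
    (hQT : Q ≤ T) (hfn : F.IsFullyNormalized Q) : E.IsFullyNormalized Q := by
  have hF := hE.1.2.1
  refine ⟨hQT, fun R hR => ?_⟩
  obtain ⟨φ₀, hφ₀, hr₀⟩ := hR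
  have hQR : F.IsConj Q R := ⟨φ₀, hE.1.2.2.1 Q hφ₀, hr₀⟩
  obtain ⟨φ, -, hφr, ψ, hψ, hψe⟩ := exists_normalizer_map_fn hS hF hfn (isConj_symm hQR)
  have : Finite T := finite_of_le (le_S hE)
  have : Finite (normalizerIn T Q) := finite_of_le (normalizerIn_le Q)
  obtain ⟨g, hg, hge⟩ := exists_mor hψ
  have hsub : normalizerIn T R ≤ normalizerIn S R := fun x hx => ⟨le_S hE hx.1, hx.2⟩
  have hRN : R ≤ normalizerIn S R := le_normalizerIn (isConj_le_right hQR)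
  have hgR : g '' (R : Set Ω) = Q := by
    rw [← hφr]
    ext y
    constructor
    · rintro ⟨x, hx, rfl⟩
      exact ⟨⟨x, hx⟩, ((hge ⟨x, hRN hx⟩).trans (hψe ⟨x, hx⟩ (hRN hx))).symm⟩
    · rintro ⟨x, rfl⟩
      exact ⟨x, x.2, (hge ⟨x, hRN x.2⟩).trans (hψe x (hRN x.2))⟩
  exact hg.card_le hsub fun x hx =>
    ⟨mor_mem_T hE hg (hsub hx) hx.1, (hg.map_normalizer hRN hgR (hsub hx) hx.2).2⟩

omit [Finite S] [Fact p.Prime] in
theorem autInducedBy_le_pGen (hS : IsPGroup p S) (hE : E.IsNormalIn F p) {Q : Subgroup Ω}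
    (hQT : Q ≤ T) : Cfsg.autInducedBy T Q ≤ pGen E p Q := fun a ha => by
  obtain ⟨k, hk⟩ := isPGroup_autInducedBy (hS.to_le (le_S hE)) Q ⟨a, ha⟩
  exact Subgroup.subset_closure
    ⟨autInducedBy_le_autGroup E hQT ha, k, congrArg Subtype.val hk⟩

/-- The index of `Aut_T(Q)` in a group of automorphisms between it and `Aut_E(Q)`. -/
theorem index_autInducedBy_coprime (hS : IsPGroup p S) (hE : E.IsNormalIn F p) {Q : Subgroup Ω}
    (hQT : Q ≤ T) (hfn : F.IsFullyNormalized Q) {M : Subgroup (MulAut Q)}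
    (hUM : Cfsg.autInducedBy T Q ≤ M) (hME : M ≤ E.autGroup Q) :
    ((Cfsg.autInducedBy T Q).subgroupOf M).index.Coprime p := by
  have : Finite T := finite_of_le (le_S hE)
  have : Finite Q := finite_of_le hQT
  have := finite_mulAut Q
  obtain ⟨⟨-, R, hR⟩, -⟩ :=
    fullyNormalized_props (hS.to_le (le_S hE)) hE.1.1 (fullyNormalized_sub hS hE hQT hfn)
  refine Nat.Coprime.coprime_dvd_left ?_
    ((Nat.Prime.coprime_iff_not_dvd Fact.out).2 R.not_dvd_index).symm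
  rw [hR]
  exact Dvd.intro _ (Subgroup.relIndex_mul_relIndex _ _ _ hUM hME)

/-- The displacement of `x` becomes a coboundary. -/
theorem exists_shift (hS : IsPGroup p S) (hE : E.IsNormalIn F p) {Q : Subgroup Ω}
    (hQ : TCentric F T Q) (hfn : F.IsFullyNormalized Q) (M : Subgroup (MulAut Q))
    (hUM : Cfsg.autInducedBy T Q ≤ M) (hME : M ≤ E.autGroup Q) (hlift : ∀ g ∈ M, LiftsQ F Q g)
    {x : Ω} (hxW : x ∈ centralizerIn S Q) (hxT : ∀ t ∈ normalizerIn T Q, t * x = x * t) :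
    ∃ (z : Ω) (hz : z ∈ zSub S Q), (∀ t ∈ normalizerIn T Q, t * z = z * t) ∧
      (∀ g ∈ M, ∀ β, Canon F E p Q β → (∀ q : Q, β q = ((g q : Q) : Ω)) →
        β x = x * (z * ((g ⟨z, hz.1⟩ : Q) : Ω)⁻¹) ∧ β (x * z) = x * z) ∧
      ∀ K : Subgroup Ω, (∀ γ : Ω → Ω, Mor F (Q ⊔ centralizerIn S Q) γ →
        (∃ g ∈ M, ∀ q : Q, γ q = ((g q : Q) : Ω)) → x⁻¹ * γ x ∈ zSub S Q →
          x⁻¹ * γ x ∈ K) → z ∈ K := by
  have hTS := le_S hE
  have hQS : Q ≤ S := hQ.1.trans hTS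
  have hidx := index_autInducedBy_coprime hS hE hQ.1 hfn hUM hME
  obtain ⟨c, hcZ, hcmul, hcU, hcγ, hcβ⟩ :=
    exists_cocycle hS hE hQ hfn M hUM hlift hidx hxW hxT
  have : Finite Q := finite_of_le hQS
  have := finite_mulAut Q
  have : Finite (zSub S Q) := finite_of_le (inf_le_left : zSub S Q ≤ Q)
  let : CommGroup (zSub S Q) := { (inferInstance : Group (zSub S Q)) with
    mul_comm := fun a b => Subtype.ext (comm_of_mem a.2.1 b.2.2) }
  have hVp : IsPGroup p (zSub S Q) := hS.to_le (inf_le_left.trans hQS)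
  set φ : M →* MulAut (zSub S Q) := (zAct hQS).comp M.subtype with hφ
  obtain ⟨z, hzcl, hzc, hzU⟩ := exists_coboundary φ hVp
    ((Cfsg.autInducedBy T Q).subgroupOf M) hidx (fun g => (⟨c g, hcZ g⟩ : zSub S Q))
    (fun g h => Subtype.ext (hcmul g h (hcZ h).1))
    (fun u hu => Subtype.ext (hcU u hu))
  refine ⟨z, z.2, fun t ht => ?_, fun g hg β hβ hβg => ?_, fun K hK => ?_⟩
  · have h1 := congrArg Subtype.val (hzU ⟨conjAut ht.2, hUM (conjAut_mem_autInducedBy ht.2 ht.1)⟩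
      (show conjAut ht.2 ∈ Cfsg.autInducedBy T Q from conjAut_mem_autInducedBy ht.2 ht.1))
    have h2 : t * (z : Ω) * t⁻¹ = z := h1
    calc t * (z : Ω) = t * (z : Ω) * t⁻¹ * t := by group
      _ = z * t := by rw [h2]
  · have h1 := congrArg Subtype.val (hzc ⟨g, hg⟩)
    have h2 : c ⟨g, hg⟩ = (z : Ω) * ((g ⟨(z : Ω), z.2.1⟩ : Q) : Ω)⁻¹ := by
      rw [div_eq_mul_inv] at h1
      exact h1
    have h3 := hcβ ⟨g, hg⟩ β hβ hβg
    rw [h2] at h3
    refine ⟨h3, ?_⟩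
    rw [hβ.mor.map_mul (Subgroup.mem_sup_right hxW) (Subgroup.mem_sup_left z.2.1), h3,
      hβg ⟨(z : Ω), z.2.1⟩]
    group
  · refine ((Subgroup.closure_le (K.subgroupOf (zSub S Q))).2 ?_) hzcl
    rintro _ ⟨g, rfl⟩
    obtain ⟨γ, hγ, hγg, -, hγx⟩ := hcγ g
    have e : x⁻¹ * γ x = c g := by rw [hγx, inv_mul_cancel_left]
    show c g ∈ K
    rw [← e]
    exact hK γ hγ ⟨g, g.2, hγg⟩ (by rw [e]; exact hcZ g)

end CfsgLib.OddVanish
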